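import Cfsg.Agent.H55.Fi22E6.Rows
import Cfsg.Agent.H55.TwE6Local.DataGens
import Cfsg.Agent.H55.TwE6Local.DataAd

/-!
Evaluations on packed matrices: products of words, combinations of the adjoint matrices and comparisons.
-/

set_option autoImplicit false
set_option maxRecDepth 100000

namespace Cfsg.Agent.H55.TwE6Local

open Cfsg.Agent.H55.Fi22E6
open Cfsg.Agent.H16 Cfsg.Lie

/-- Rows of a product. -/
noncomputable def prodN (T : List ℕ) : List ℕ → ℕ :=
  List.rec oneN fun g _ ih => mulN (T.getD g 0) ih

/-- The sum of the first `n` values. -/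
noncomputable def xorUpTo (f : ℕ → ℕ) : ℕ → ℕ
  | 0 => 0
  | n + 1 => xorUpTo f n ^^^ f n

/-- The sum of the adjoint matrices selected by a digit of the entries of a column. -/
noncomputable def adPart (D j b : ℕ) : ℕ :=
  xorUpTo (fun k => if (getP D k j).testBit b then adData.getD k 0 else 0) 78

/-- The adjoint matrix of a column. -/
noncomputable def adN (D j : ℕ) : ℕ := adPart D j 0 ^^^ mulN wData (adPart D j 1)

/-- The condition on a number to be a packed matrix over the field with four elements. -/
noncomputable def linN (N : ℕ) : Bool := (List.range 78).all fun k => (List.range 78).all fun l =>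
  Nat.beq (getQ N k l) ([0, 2, 3, 1].getD (getP N k l) 0)

/-- The comparison of one row of a root element with its data. -/
noncomputable def rowOk (n : ℕ) (k : Fin 78) : Bool :=
  (List.finRange 78).all fun l =>
    Nat.beq (F4.toNat (chevE6.x F4 (rootPairs.getD n (0, 0)).1 (rootPairs.getD n (0, 0)).2 (idx.symm k) (idx.symm l)))
      (getP (rootData.getD n 0) k l)

/-- The rows of the identity plus a matrix. -/
noncomputable def compl (Q : ℕ) : ℕ := oneN ^^^ Q

/-- Two packed matrices differ at the given position. -/
noncomputable def differ (A B : ℕ) (p : ℕ × ℕ) : Bool :=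
  decide (p.1 < 78) && decide (p.2 < 78) && !(Nat.beq (getP A p.1 p.2) (getP B p.1 p.2))

end Cfsg.Agent.H55.TwE6Local
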