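import Cfsg.Agent.H55.TwE6Local.Theory

/-!
Packed certificates for the invariant subspaces, and the criterion for a normaliser not to be maximal.
-/

set_option autoImplicit false
set_option maxRecDepth 100000

namespace Cfsg.Agent.H55.TwE6Local

open Cfsg.Agent.H55.Fi22E6
open Cfsg.Lie Cfsg.Agent.H16
open scoped Matrix

/-- The powers of an element are as recorded. -/
noncomputable def powOk (pw : List ℕ) (w : List ℕ) (p : ℕ) : Bool :=
  letters w && Nat.beq (pw.getD 0 0) oneN && Nat.beq (pw.getD 1 0) (prodN genData w) &&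
    (List.range p).all fun i => Nat.beq (mulN (pw.getD i 0) (pw.getD 1 0)) (pw.getD ((i + 1) % p) 0)

/-- A generating set of the previous subspace under the element. -/
noncomputable def genOk (pw : List ℕ) (p D : ℕ) (N : List ℕ) (Q1 : ℕ) : Bool :=
  Nat.beq (xorUpTo (fun i => mulN (pw.getD i 0) (mulN D (N.getD i 0))) p) (compl Q1) && N.all linN && linN D &&
    linN Q1 && Nat.beq (mulN Q1 (compl Q1)) 0 && Nat.beq (mulN Q1 D) 0

/-- The columns beyond the given one vanish. -/
noncomputable def colsOk (D nd : ℕ) : Bool :=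
  decide (nd ≤ 78) && (List.range 78).all fun l => decide (l < nd) || (List.range 78).all fun k => Nat.beq (getP D k l) 0

/-- The brackets with the generating vectors. -/
noncomputable def adOk (D : ℕ) (A : List ℕ) (nd : ℕ) : Bool :=
  (List.range nd).all fun j => Nat.beq (A.getD j 0) (adN D j)

/-- The spanning matrices of the first kind. -/
noncomputable def blockE (E : ℕ) (A B : List ℕ) (Q1 nd : ℕ) : Bool :=
  (List.range nd).all fun j => Nat.beq (B.getD j 0) (mulN (mulN (mulN E (A.getD j 0)) E) (compl Q1))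

/-- The spanning matrices of the second kind. -/
noncomputable def blockB (pw : List ℕ) (p d : ℕ) (A B : List ℕ) (Q1 nd : ℕ) : Bool :=
  (List.range nd).all fun j => Nat.beq (B.getD j 0)
    (mulN (xorUpTo (fun i => mulN (mulN (pw.getD i 0) (A.getD j 0)) (pw.getD (d * i % p) 0)) p) (compl Q1))

/-- The spanning matrices span the kernel of the equations. -/
noncomputable def spanOk (Q : ℕ) (B M : List ℕ) (nd : ℕ) : Bool :=
  ((List.range nd).all fun j => Nat.beq (mulN Q (B.getD j 0)) 0) &&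
    Nat.beq (Q ^^^ xorUpTo (fun j => mulN (B.getD j 0) (M.getD j 0)) nd) oneN && linN Q && M.all linN &&
    Nat.beq (mulN Q (compl Q)) 0

/-- The element stabilises the subspace. -/
noncomputable def stabOk (Q : ℕ) (e : List ℕ) : Bool :=
  Nat.beq (mulN (mulN Q (prodN genData e)) (compl Q)) 0

/-- The element conjugates the first power outside the recorded ones. -/
noncomputable def sepOk (pw : List ℕ) (e : List ℕ) (C : ℕ) (wit : List (ℕ × ℕ)) (p : ℕ) : Bool :=
  letters e && Nat.beq (mulN (mulN (prodN genData e) (pw.getD 1 0)) (prodN genData e.reverse)) C &&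
    (List.range p).all fun i => differ C (pw.getD i 0) (wit.getD i (0, 0))

/-- The generator moves the subspace. -/
noncomputable def moveOk (Q g : ℕ) (pos : ℕ × ℕ) : Bool :=
  decide (g < 16) && differ (mulN (mulN Q (genData.getD g 0)) (compl Q)) 0 pos

theorem is_compl {Q : Mat4} {R : ℕ} (h : Is Q R) : Is (1 + Q) (compl R) := Is.one.add h

theorem is_getD {L : List ℕ} (h : L.all linN = true) (i : ℕ) : Is (ofN (L.getD i 0)) (L.getD i 0) := by
  by_cases hi : i < L.length
  · rw [List.getD_eq_getElem _ _ hi]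
    exact is_ofN (List.all_eq_true.1 h _ (List.getElem_mem hi))
  · rw [List.getD_eq_default _ _ (by omega)]
    exact is_ofN (by decide +kernel)

theorem is_sum_range {f : ℕ → Mat4} {g : ℕ → ℕ} : ∀ n, (∀ i, i < n → Is (f i) (g i)) →
    Is (∑ i ∈ Finset.range n, f i) (xorUpTo g n)
  | 0, _ => by simpa [xorUpTo] using Is.zero
  | n + 1, h => by
    rw [Finset.sum_range_succ, xorUpTo]
    exact (is_sum_range n fun i hi => h i (by omega)).add (h n (by omega))

theorem sum_zmod {M : Type*} [AddCommMonoid M] {p : ℕ} [NeZero p] (f : ZMod p → M) :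
    ∑ i : ZMod p, f i = ∑ i ∈ Finset.range p, f (i : ZMod p) :=
  Finset.sum_nbij' (fun i => i.val) (fun i => (i : ZMod p)) (fun i _ => Finset.mem_range.2 (ZMod.val_lt i))
    (fun i _ => Finset.mem_univ _) (fun i _ => ZMod.natCast_zmod_val i)
    (fun i hi => ZMod.val_cast_of_lt (Finset.mem_range.1 hi)) fun i _ => by rw [ZMod.natCast_zmod_val]

theorem pow_rows {pw w : List ℕ} {p : ℕ} (hp : 1 < p) (h : powOk pw w p = true) :
    gl w ∈ Tw ∧ gl w ^ p = 1 ∧ ∀ i, IsG (gl w ^ i) (pw.getD (i % p) 0) := by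
  simp only [powOk, Bool.and_eq_true, List.all_eq_true, List.mem_range] at h
  obtain ⟨⟨⟨hw, h0⟩, h1⟩, hs⟩ := h
  have hx : IsG (gl w) (pw.getD 1 0) := (Nat.eq_of_beq_eq_true h1).symm ▸ gl_rows hw
  have key : ∀ i, IsG (gl w ^ i) (pw.getD (i % p) 0) := by
    intro i
    induction i with
    | zero => rw [Nat.zero_mod, pow_zero, Nat.eq_of_beq_eq_true h0]; exact IsG.one
    | succ i ih =>
      rw [pow_succ]
      have := Nat.eq_of_beq_eq_true (hs (i % p) (Nat.mod_lt _ (by omega)))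
      rw [Nat.mod_add_mod] at this
      exact this ▸ ih.mul hx
  refine ⟨gl_mem hw, ?_, key⟩
  have := key p
  rw [Nat.mod_self, Nat.eq_of_beq_eq_true h0] at this
  exact this.ext IsG.one

/-- Invariance under the normaliser of the subgroup generated by an element. -/
def InvN (p : ℕ) (x : GL chevE6.Idx F4) (W : Submodule F4 Vec4) : Prop :=
  ∀ n ∈ Tw, ∀ m : ℕ, (m : ZMod p) ≠ 0 → n * x * n⁻¹ = x ^ m → ∀ w ∈ W, (n : Mat4) *ᵥ w ∈ W

theorem invN_top (p : ℕ) (x : GL chevE6.Idx F4) : InvN p x ⊤ := fun _ _ _ _ _ _ _ => trivial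

theorem invN_span {p : ℕ} {x : GL chevE6.Idx F4} {Φ : Vec4 → Mat4} (hΦ : Nice p x Φ) {S : Submodule F4 Vec4}
    (hS : InvN p x S) : InvN p x (spanP Φ S) :=
  fun n hn m hm hnx => spanP_map (hΦ.natural n (tw_aut hn) m hm hnx) (hS n hn m hm hnx)

theorem linN_zero : linN 0 = true := by decide +kernel

theorem ofN_zero : ofN 0 = 0 := Is.ext (is_ofN linN_zero) Is.zero

/-- The span is the kernel of the recorded equations. -/
theorem span_cert {p : ℕ} [hp : Fact p.Prime] {pw w : List ℕ} (hw : powOk pw w p = true) {Φ : Vec4 → Mat4}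
    (hΦ : Nice p (gl w) Φ) {D nd : ℕ} {N A B M : List ℕ} {Q1 Q : ℕ} (hgen : genOk pw p D N Q1 = true)
    (hcols : colsOk D nd = true) (had : adOk D A nd = true)
    (hB : ∀ v j, j < nd → Is (ad v) (A.getD j 0) → Is (Φ v * (1 + ofN Q1)) (B.getD j 0))
    (hspan : spanOk Q B M nd = true) (hS : InvN p (gl w) (kerQ (ofN Q1))) :
    spanP Φ (kerQ (ofN Q1)) = kerQ (ofN Q) ∧ InvN p (gl w) (kerQ (ofN Q)) := by
  obtain ⟨hmem, hxp, hpow⟩ := pow_rows hp.out.one_lt hw
  simp only [genOk, Bool.and_eq_true] at hgen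
  obtain ⟨⟨⟨⟨⟨hg, hN⟩, hDl⟩, hQ1l⟩, hQ1i⟩, hQ1D⟩ := hgen
  simp only [colsOk, Bool.and_eq_true, decide_eq_true_eq, List.all_eq_true, List.mem_range, Bool.or_eq_true] at hcols
  simp only [adOk, List.all_eq_true, List.mem_range] at had
  simp only [spanOk, Bool.and_eq_true, List.all_eq_true (p := fun j => Nat.beq _ _), List.mem_range] at hspan
  obtain ⟨⟨⟨⟨hQB, hone⟩, hQl⟩, hMl⟩, -⟩ := hspan
  have iQ1 := is_ofN hQ1l
  have iD := is_ofN hDl
  have iQ := is_ofN hQl
  have hcol : ∀ j : Fin 78, j.val < nd →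
      Is (Φ (fun i => ofN D i (idx.symm j)) * (1 + ofN Q1)) (B.getD j.val 0) := fun j hj =>
    hB _ j hj (Nat.eq_of_beq_eq_true (had j hj) ▸ is_ad_col iD j)
  have heq : spanP Φ (kerQ (ofN Q1)) = kerQ (ofN Q) := by
    refine spanP_eq hxp hΦ (Dm := ofN D) (nd := nd) ((iQ1.mul (is_compl iQ1)).ext (Nat.eq_of_beq_eq_true hQ1i ▸ Is.zero))
      (fun v hv => hS _ hmem 1 (by rw [Nat.cast_one]; exact one_ne_zero) (by group) v hv) ?_
      ((iQ1.mul iD).ext (Nat.eq_of_beq_eq_true hQ1D ▸ Is.zero))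
      (N := fun i => ofN (N.getD i.val 0)) ?_ (M := fun j => ofN (M.getD j.val 0)) ?_ ?_
    · intro i j hj
      rw [← idx.symm_apply_apply i, iD.entry]
      rcases hcols.2 j.val j.isLt with h | h
      · omega
      · rw [Nat.eq_of_beq_eq_true (h _ (idx i).isLt)]; rfl
    · rw [sum_zmod]
      refine Is.ext (is_sum_range p fun i hi => ?_) (Nat.eq_of_beq_eq_true hg ▸ is_compl iQ1)
      rw [xp_natCast hxp, ZMod.val_cast_of_lt hi]
      have := hpow i
      rw [Nat.mod_eq_of_lt hi] at this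
      exact Is.mul this (iD.mul (is_getD hN i))
    · intro j hj
      exact (iQ.mul (hcol j hj)).ext (by rw [Nat.eq_of_beq_eq_true (hQB j hj)]; exact Is.zero)
    · refine Is.ext (iQ.add ?_) (Nat.eq_of_beq_eq_true hone ▸ Is.one)
      have e : ∑ j ∈ Finset.univ.filter (fun j : Fin 78 => j.val < nd),
          Φ (fun i => ofN D i (idx.symm j)) * (1 + ofN Q1) * ofN (M.getD j.val 0) =
          ∑ j ∈ Finset.range nd, if h : j < 78 then
            Φ (fun i => ofN D i (idx.symm ⟨j, h⟩)) * (1 + ofN Q1) * ofN (M.getD j 0) else 0 := by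
        refine Finset.sum_bij' (fun j _ => j.val)
          (fun j hj => ⟨j, lt_of_lt_of_le (Finset.mem_range.1 hj) hcols.1⟩) ?_ ?_ ?_ ?_ ?_
        · intro j hj; exact Finset.mem_range.2 (Finset.mem_filter.1 hj).2
        · intro j hj; exact Finset.mem_filter.2 ⟨Finset.mem_univ _, Finset.mem_range.1 hj⟩
        · intro j _; rfl
        · intro j _; rfl
        · intro j _; rw [dif_pos j.isLt]
      rw [e]
      refine is_sum_range nd fun j hj => ?_
      rw [dif_pos (lt_of_lt_of_le hj hcols.1)]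
      exact (hcol ⟨j, _⟩ hj).mul (is_getD hMl j)
  exact ⟨heq, heq ▸ invN_span hΦ hS⟩

theorem block_E {p : ℕ} [hp : Fact p.Prime] {pw w : List ℕ} (hw : powOk pw w p = true) {E : ℕ}
    (hE : Nat.beq (xorUpTo (fun i => pw.getD i 0) p) E = true) {A B : List ℕ} {Q1 nd : ℕ} (hQ1 : linN Q1 = true)
    (hb : blockE E A B Q1 nd = true) : ∀ v j, j < nd → Is (ad v) (A.getD j 0) →
      Is (phiE p (gl w) v * (1 + ofN Q1)) (B.getD j 0) := by
  obtain ⟨-, hxp, hpow⟩ := pow_rows hp.out.one_lt hw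
  have hpow' : ∀ i, i < p → Is ((gl w ^ i : GL chevE6.Idx F4) : Mat4) (pw.getD i 0) := fun i hi => by
    have := hpow i
    rwa [Nat.mod_eq_of_lt hi] at this
  intro v j hj hA
  simp only [blockE, List.all_eq_true, List.mem_range] at hb
  have hs : Is (sumX (p := p) (x := gl w)) E := by
    rw [sumX, sum_zmod, ← Nat.eq_of_beq_eq_true hE]
    refine is_sum_range p fun i hi => ?_
    rw [xp_natCast hxp]
    exact hpow' i hi
  rw [Nat.eq_of_beq_eq_true (hb j hj), phiE]
  exact ((hs.mul hA).mul hs).mul (is_compl (is_ofN hQ1))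

theorem block_B {p : ℕ} [hp : Fact p.Prime] {pw w : List ℕ} (hw : powOk pw w p = true) {d : ℕ}
    {A B : List ℕ} {Q1 nd : ℕ} (hQ1 : linN Q1 = true) (hb : blockB pw p d A B Q1 nd = true) :
    ∀ v j, j < nd → Is (ad v) (A.getD j 0) → Is (phiB p (gl w) (d : ZMod p) v * (1 + ofN Q1)) (B.getD j 0) := by
  obtain ⟨-, hxp, hpow⟩ := pow_rows hp.out.one_lt hw
  have hpow' : ∀ i, i < p → Is ((gl w ^ i : GL chevE6.Idx F4) : Mat4) (pw.getD i 0) := fun i hi => by
    have := hpow i
    rwa [Nat.mod_eq_of_lt hi] at this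
  intro v j hj hA
  simp only [blockB, List.all_eq_true, List.mem_range] at hb
  rw [Nat.eq_of_beq_eq_true (hb j hj), phiB, sum_zmod]
  refine Is.mul (is_sum_range p fun i hi => ?_) (is_compl (is_ofN hQ1))
  rw [← Nat.cast_mul, xp_natCast hxp, xp_natCast hxp]
  exact Is.mul (Is.mul (hpow' i hi) hA) (hpow (d * i))

/-- An element stabilises the kernel. -/
theorem stab_cert {Q : ℕ} {e : List ℕ} (hl : letters e = true) (hQ : linN Q = true)
    (h1 : stabOk Q e = true) (h2 : stabOk Q e.reverse = true) : gl e ∈ stabW (kerQ (ofN Q)) := by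
  have key : ∀ f : List ℕ, letters f = true → stabOk Q f = true →
      ∀ v ∈ kerQ (ofN Q), (gl f : Mat4) *ᵥ v ∈ kerQ (ofN Q) := fun f hf h =>
    kerQ_stable ((((is_ofN hQ).mul (gl_rows hf)).mul (is_compl (is_ofN hQ))).ext
      (Nat.eq_of_beq_eq_true h ▸ Is.zero))
  refine mem_stabW (key e hl h1) ?_
  rw [← gl_reverse hl]
  exact key _ (by simpa [letters] using hl) h2

/-- A generator moves the kernel. -/
theorem move_cert {Q g : ℕ} {pos : ℕ × ℕ} (hQ : linN Q = true) (hi : Nat.beq (mulN Q (compl Q)) 0 = true)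
    (h : moveOk Q g pos = true) : baseGL g ∈ Tw ∧ baseGL g ∉ stabW (kerQ (ofN Q)) := by
  simp only [moveOk, Bool.and_eq_true, decide_eq_true_eq] at h
  obtain ⟨hg, hd⟩ := h
  refine ⟨baseGL_mem hg, fun hs => kerQ_moved (g := (baseGL g : Mat4))
    (((is_ofN hQ).mul (is_compl (is_ofN hQ))).ext (Nat.eq_of_beq_eq_true hi ▸ Is.zero)) ?_ fun v hv => (hs v).2 hv⟩
  intro hz
  have hI := ((is_ofN hQ).mul (baseGL_rows hg)).mul (is_compl (is_ofN hQ))
  rw [hz] at hI
  simp only [differ, Bool.and_eq_true, decide_eq_true_eq, Bool.not_eq_true'] at hd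
  obtain ⟨⟨hk, hl⟩, hne⟩ := hd
  have inj : ∀ a b : Fin 4, F4.fromNat a.val = F4.fromNat b.val → a = b := by decide
  have e := congrArg Fin.val (inj ⟨getP _ pos.1 pos.2, Nat.mod_lt _ (by norm_num)⟩ ⟨getP 0 pos.1 pos.2, Nat.mod_lt _ (by norm_num)⟩
    ((hI.entry ⟨pos.1, hk⟩ ⟨pos.2, hl⟩).symm.trans (Is.zero.entry ⟨pos.1, hk⟩ ⟨pos.2, hl⟩)))
  simp only at e
  rw [e, Nat.beq_refl] at hne
  exact absurd hne (by simp)

end Cfsg.Agent.H55.TwE6Local
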