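import Cfsg.Agent.H55.TwE6Local.Criterion
import Cfsg.Agent.H55.TwE6Local.DataP11

/-!
The certificate `P11`, for an element of order 11.
-/

set_option autoImplicit false
set_option Elab.async false
set_option maxRecDepth 100000

namespace Cfsg.Agent.H55.TwE6Local

open Cfsg.Agent.H55.Fi22E6
open Cfsg.Agent.H16 Cfsg.Lie

theorem powOk_P11 : powOk powP11 xP11 11 = true := by
  decide +kernel

theorem sumOk_P11 : Nat.beq (xorUpTo (fun i => powP11.getD i 0) 11) sumP11 = true := by
  decide +kernel

theorem tP11_gen : genOk powP11 11 tP11D tP11N 0 = true := by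
  decide +kernel

theorem tP11_cols : colsOk tP11D 8 = true := by
  decide +kernel

theorem tP11_ad : adOk tP11D tP11A 8 = true := by
  decide +kernel

theorem tP11_block : blockE sumP11 tP11A tP11B 0 8 = true := by
  decide +kernel

theorem tP11_span : spanOk tP11Q tP11B tP11M 8 = true := by
  decide +kernel

theorem tP11_lin : linN tP11Q = true ∧ Nat.beq (mulN tP11Q (compl tP11Q)) 0 = true := by
  decide +kernel

theorem stab_P11 : stabOk tP11Q eP11 = true := by
  decide +kernel

theorem stab_rev_P11 : stabOk tP11Q eP11.reverse = true := by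
  decide +kernel

theorem sep_P11 : sepOk powP11 eP11 conjP11 witP11 11 = true := by
  decide +kernel

theorem move_P11 : moveOk tP11Q moveP11 movePosP11 = true := by
  decide +kernel

theorem mem_P11 : gl xP11 ∈ Tw :=
  (pow_rows (by norm_num) powOk_P11).1

theorem inv_P11 : InvN 11 (gl xP11) (kerQ (ofN tP11Q)) := by
  haveI : Fact (Nat.Prime 11) := ⟨by norm_num⟩
  obtain ⟨hmem, hxp, -⟩ := pow_rows (p := 11) (by norm_num) powOk_P11
  have h0 : InvN 11 (gl xP11) (kerQ (ofN 0)) := by rw [ofN_zero, kerQ_zero]; exact invN_top _ _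
  have h1 := (span_cert powOk_P11 (nice_phiE hxp (tw_aut hmem)) tP11_gen tP11_cols tP11_ad
    (block_E powOk_P11 sumOk_P11 linN_zero tP11_block) tP11_span h0).2
  exact h1

/-- The normaliser of the subgroup generated by the element is not maximal. -/
theorem notMax_P11 : ¬ IsCoatom (Subgroup.normalizer
    ((Subgroup.zpowers (⟨gl xP11, mem_P11⟩ : Tw) : Subgroup Tw) : Set Tw)) :=
  haveI : Fact (Nat.Prime 11) := ⟨by norm_num⟩
  not_coatom_zpowers powOk_P11 inv_P11 tP11_lin.1 tP11_lin.2 stab_P11 stab_rev_P11 sep_P11 move_P11 mem_P11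

end Cfsg.Agent.H55.TwE6Local
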