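import Cfsg.Agent.H55.TwE6Local.Criterion
import Cfsg.Agent.H55.TwE6Local.DataP13

/-!
The certificate `P13`, for an element of order 13.
-/

set_option autoImplicit false
set_option Elab.async false
set_option maxRecDepth 100000

namespace Cfsg.Agent.H55.TwE6Local

open Cfsg.Agent.H55.Fi22E6
open Cfsg.Agent.H16 Cfsg.Lie

theorem powOk_P13 : powOk powP13 xP13 13 = true := by
  decide +kernel

theorem lP13_gen : genOk powP13 13 lP13D lP13N 0 = true := by
  decide +kernel

theorem lP13_cols : colsOk lP13D 7 = true := by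
  decide +kernel

theorem lP13_ad : adOk lP13D lP13A 7 = true := by
  decide +kernel

theorem lP13_block : blockB powP13 13 11 lP13A lP13B 0 7 = true := by
  decide +kernel

theorem lP13_span : spanOk lP13Q lP13B lP13M 7 = true := by
  decide +kernel

theorem lP13_lin : linN lP13Q = true ∧ Nat.beq (mulN lP13Q (compl lP13Q)) 0 = true := by
  decide +kernel

theorem tP13_gen : genOk powP13 13 tP13D tP13N lP13Q = true := by
  decide +kernel

theorem tP13_cols : colsOk tP13D 5 = true := by
  decide +kernel

theorem tP13_ad : adOk tP13D tP13A 5 = true := by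
  decide +kernel

theorem tP13_block : blockB powP13 13 11 tP13A tP13B lP13Q 5 = true := by
  decide +kernel

theorem tP13_span : spanOk tP13Q tP13B tP13M 5 = true := by
  decide +kernel

theorem tP13_lin : linN tP13Q = true ∧ Nat.beq (mulN tP13Q (compl tP13Q)) 0 = true := by
  decide +kernel

theorem stab_P13 : stabOk tP13Q eP13 = true := by
  decide +kernel

theorem stab_rev_P13 : stabOk tP13Q eP13.reverse = true := by
  decide +kernel

theorem sep_P13 : sepOk powP13 eP13 conjP13 witP13 13 = true := by
  decide +kernel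

theorem move_P13 : moveOk tP13Q moveP13 movePosP13 = true := by
  decide +kernel

theorem mem_P13 : gl xP13 ∈ Tw :=
  (pow_rows (by norm_num) powOk_P13).1

theorem inv_P13 : InvN 13 (gl xP13) (kerQ (ofN tP13Q)) := by
  haveI : Fact (Nat.Prime 13) := ⟨by norm_num⟩
  obtain ⟨hmem, hxp, -⟩ := pow_rows (p := 13) (by norm_num) powOk_P13
  have h0 : InvN 13 (gl xP13) (kerQ (ofN 0)) := by rw [ofN_zero, kerQ_zero]; exact invN_top _ _
  have h1 := (span_cert powOk_P13 (nice_phiB hxp (tw_aut hmem) (11 : ℕ)) lP13_gen lP13_cols lP13_ad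
    (block_B powOk_P13 linN_zero lP13_block) lP13_span h0).2
  have h2 := (span_cert powOk_P13 (nice_phiB hxp (tw_aut hmem) (11 : ℕ)) tP13_gen tP13_cols tP13_ad
    (block_B powOk_P13 lP13_lin.1 tP13_block) tP13_span h1).2
  exact h2

/-- The normaliser of the subgroup generated by the element is not maximal. -/
theorem notMax_P13 : ¬ IsCoatom (Subgroup.normalizer
    ((Subgroup.zpowers (⟨gl xP13, mem_P13⟩ : Tw) : Subgroup Tw) : Set Tw)) :=
  haveI : Fact (Nat.Prime 13) := ⟨by norm_num⟩
  not_coatom_zpowers powOk_P13 inv_P13 tP13_lin.1 tP13_lin.2 stab_P13 stab_rev_P13 sep_P13 move_P13 mem_P13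

end Cfsg.Agent.H55.TwE6Local
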