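import Cfsg.Agent.H55.TwE6Local.Criterion
import Cfsg.Agent.H55.TwE6Local.DataP17

/-!
The certificate `P17`, for an element of order 17.
-/

set_option autoImplicit false
set_option Elab.async false
set_option maxRecDepth 100000

namespace Cfsg.Agent.H55.TwE6Local

open Cfsg.Agent.H55.Fi22E6
open Cfsg.Agent.H16 Cfsg.Lie

theorem powOk_P17 : powOk powP17 xP17 17 = true := by
  decide +kernel

theorem lP17_gen : genOk powP17 17 lP17D lP17N 0 = true := by
  decide +kernel

theorem lP17_cols : colsOk lP17D 6 = true := by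
  decide +kernel

theorem lP17_ad : adOk lP17D lP17A 6 = true := by
  decide +kernel

theorem lP17_block : blockB powP17 17 15 lP17A lP17B 0 6 = true := by
  decide +kernel

theorem lP17_span : spanOk lP17Q lP17B lP17M 6 = true := by
  decide +kernel

theorem lP17_lin : linN lP17Q = true ∧ Nat.beq (mulN lP17Q (compl lP17Q)) 0 = true := by
  decide +kernel

theorem tP17_gen : genOk powP17 17 tP17D tP17N lP17Q = true := by
  decide +kernel

theorem tP17_cols : colsOk tP17D 4 = true := by
  decide +kernel

theorem tP17_ad : adOk tP17D tP17A 4 = true := by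
  decide +kernel

theorem tP17_block : blockB powP17 17 10 tP17A tP17B lP17Q 4 = true := by
  decide +kernel

theorem tP17_span : spanOk tP17Q tP17B tP17M 4 = true := by
  decide +kernel

theorem tP17_lin : linN tP17Q = true ∧ Nat.beq (mulN tP17Q (compl tP17Q)) 0 = true := by
  decide +kernel

theorem stab_P17 : stabOk tP17Q eP17 = true := by
  decide +kernel

theorem stab_rev_P17 : stabOk tP17Q eP17.reverse = true := by
  decide +kernel

theorem sep_P17 : sepOk powP17 eP17 conjP17 witP17 17 = true := by
  decide +kernel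

theorem move_P17 : moveOk tP17Q moveP17 movePosP17 = true := by
  decide +kernel

theorem mem_P17 : gl xP17 ∈ Tw :=
  (pow_rows (by norm_num) powOk_P17).1

theorem inv_P17 : InvN 17 (gl xP17) (kerQ (ofN tP17Q)) := by
  haveI : Fact (Nat.Prime 17) := ⟨by norm_num⟩
  obtain ⟨hmem, hxp, -⟩ := pow_rows (p := 17) (by norm_num) powOk_P17
  have h0 : InvN 17 (gl xP17) (kerQ (ofN 0)) := by rw [ofN_zero, kerQ_zero]; exact invN_top _ _
  have h1 := (span_cert powOk_P17 (nice_phiB hxp (tw_aut hmem) (15 : ℕ)) lP17_gen lP17_cols lP17_ad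
    (block_B powOk_P17 linN_zero lP17_block) lP17_span h0).2
  have h2 := (span_cert powOk_P17 (nice_phiB hxp (tw_aut hmem) (10 : ℕ)) tP17_gen tP17_cols tP17_ad
    (block_B powOk_P17 lP17_lin.1 tP17_block) tP17_span h1).2
  exact h2

/-- The normaliser of the subgroup generated by the element is not maximal. -/
theorem notMax_P17 : ¬ IsCoatom (Subgroup.normalizer
    ((Subgroup.zpowers (⟨gl xP17, mem_P17⟩ : Tw) : Subgroup Tw) : Set Tw)) :=
  haveI : Fact (Nat.Prime 17) := ⟨by norm_num⟩
  not_coatom_zpowers powOk_P17 inv_P17 tP17_lin.1 tP17_lin.2 stab_P17 stab_rev_P17 sep_P17 move_P17 mem_P17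

end Cfsg.Agent.H55.TwE6Local
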