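import Cfsg.Agent.H55.TwE6Local.Criterion
import Cfsg.Agent.H55.TwE6Local.DataP19

/-!
The certificate `P19`, for an element of order 19.
-/

set_option autoImplicit false
set_option Elab.async false
set_option maxRecDepth 100000

namespace Cfsg.Agent.H55.TwE6Local

open Cfsg.Agent.H55.Fi22E6
open Cfsg.Agent.H16 Cfsg.Lie

theorem powOk_P19 : powOk powP19 xP19 19 = true := by
  decide +kernel

theorem tP19_gen : genOk powP19 19 tP19D tP19N 0 = true := by
  decide +kernel

theorem tP19_cols : colsOk tP19D 6 = true := by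
  decide +kernel

theorem tP19_ad : adOk tP19D tP19A 6 = true := by
  decide +kernel

theorem tP19_block : blockB powP19 19 13 tP19A tP19B 0 6 = true := by
  decide +kernel

theorem tP19_span : spanOk tP19Q tP19B tP19M 6 = true := by
  decide +kernel

theorem tP19_lin : linN tP19Q = true ∧ Nat.beq (mulN tP19Q (compl tP19Q)) 0 = true := by
  decide +kernel

theorem stab_P19 : stabOk tP19Q eP19 = true := by
  decide +kernel

theorem stab_rev_P19 : stabOk tP19Q eP19.reverse = true := by
  decide +kernel

theorem sep_P19 : sepOk powP19 eP19 conjP19 witP19 19 = true := by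
  decide +kernel

theorem move_P19 : moveOk tP19Q moveP19 movePosP19 = true := by
  decide +kernel

theorem mem_P19 : gl xP19 ∈ Tw :=
  (pow_rows (by norm_num) powOk_P19).1

theorem inv_P19 : InvN 19 (gl xP19) (kerQ (ofN tP19Q)) := by
  haveI : Fact (Nat.Prime 19) := ⟨by norm_num⟩
  obtain ⟨hmem, hxp, -⟩ := pow_rows (p := 19) (by norm_num) powOk_P19
  have h0 : InvN 19 (gl xP19) (kerQ (ofN 0)) := by rw [ofN_zero, kerQ_zero]; exact invN_top _ _
  have h1 := (span_cert powOk_P19 (nice_phiB hxp (tw_aut hmem) (13 : ℕ)) tP19_gen tP19_cols tP19_ad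
    (block_B powOk_P19 linN_zero tP19_block) tP19_span h0).2
  exact h1

/-- The normaliser of the subgroup generated by the element is not maximal. -/
theorem notMax_P19 : ¬ IsCoatom (Subgroup.normalizer
    ((Subgroup.zpowers (⟨gl xP19, mem_P19⟩ : Tw) : Subgroup Tw) : Set Tw)) :=
  haveI : Fact (Nat.Prime 19) := ⟨by norm_num⟩
  not_coatom_zpowers powOk_P19 inv_P19 tP19_lin.1 tP19_lin.2 stab_P19 stab_rev_P19 sep_P19 move_P19 mem_P19

end Cfsg.Agent.H55.TwE6Local
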