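import Cfsg.Agent.H55.TwE6Local.Criterion
import Cfsg.Agent.H55.TwE6Local.DataX7

/-!
The certificate `X7`, for an element of order 7.
-/

set_option autoImplicit false
set_option Elab.async false
set_option maxRecDepth 100000

namespace Cfsg.Agent.H55.TwE6Local

open Cfsg.Agent.H55.Fi22E6
open Cfsg.Agent.H16 Cfsg.Lie

theorem powOk_X7 : powOk powX7 xX7 7 = true := by
  decide +kernel

theorem sumOk_X7 : Nat.beq (xorUpTo (fun i => powX7.getD i 0) 7) sumX7 = true := by
  decide +kernel

theorem tX7_gen : genOk powX7 7 tX7D tX7N 0 = true := by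
  decide +kernel

theorem tX7_cols : colsOk tX7D 18 = true := by
  decide +kernel

theorem tX7_ad : adOk tX7D tX7A 18 = true := by
  decide +kernel

theorem tX7_block : blockE sumX7 tX7A tX7B 0 18 = true := by
  decide +kernel

theorem tX7_span : spanOk tX7Q tX7B tX7M 18 = true := by
  decide +kernel

theorem tX7_lin : linN tX7Q = true ∧ Nat.beq (mulN tX7Q (compl tX7Q)) 0 = true := by
  decide +kernel

theorem stab_X7 : stabOk tX7Q eX7 = true := by
  decide +kernel

theorem stab_rev_X7 : stabOk tX7Q eX7.reverse = true := by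
  decide +kernel

theorem sep_X7 : sepOk powX7 eX7 conjX7 witX7 7 = true := by
  decide +kernel

theorem move_X7 : moveOk tX7Q moveX7 movePosX7 = true := by
  decide +kernel

theorem mem_X7 : gl xX7 ∈ Tw :=
  (pow_rows (by norm_num) powOk_X7).1

theorem inv_X7 : InvN 7 (gl xX7) (kerQ (ofN tX7Q)) := by
  haveI : Fact (Nat.Prime 7) := ⟨by norm_num⟩
  obtain ⟨hmem, hxp, -⟩ := pow_rows (p := 7) (by norm_num) powOk_X7
  have h0 : InvN 7 (gl xX7) (kerQ (ofN 0)) := by rw [ofN_zero, kerQ_zero]; exact invN_top _ _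
  have h1 := (span_cert powOk_X7 (nice_phiE hxp (tw_aut hmem)) tX7_gen tX7_cols tX7_ad
    (block_E powOk_X7 sumOk_X7 linN_zero tX7_block) tX7_span h0).2
  exact h1

/-- The normaliser of the subgroup generated by the element is not maximal. -/
theorem notMax_X7 : ¬ IsCoatom (Subgroup.normalizer
    ((Subgroup.zpowers (⟨gl xX7, mem_X7⟩ : Tw) : Subgroup Tw) : Set Tw)) :=
  haveI : Fact (Nat.Prime 7) := ⟨by norm_num⟩
  not_coatom_zpowers powOk_X7 inv_X7 tX7_lin.1 tX7_lin.2 stab_X7 stab_rev_X7 sep_X7 move_X7 mem_X7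

end Cfsg.Agent.H55.TwE6Local
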