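import Cfsg.Agent.H55.TwE6Local.Criterion
import Cfsg.Agent.H55.TwE6Local.DataY7

/-!
The certificate `Y7`, for an element of order 7.
-/

set_option autoImplicit false
set_option Elab.async false
set_option maxRecDepth 100000

namespace Cfsg.Agent.H55.TwE6Local

open Cfsg.Agent.H55.Fi22E6
open Cfsg.Agent.H16 Cfsg.Lie

theorem powOk_Y7 : powOk powY7 xY7 7 = true := by
  decide +kernel

theorem sumOk_Y7 : Nat.beq (xorUpTo (fun i => powY7.getD i 0) 7) sumY7 = true := by
  decide +kernel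

theorem tY7_gen : genOk powY7 7 tY7D tY7N 0 = true := by
  decide +kernel

theorem tY7_cols : colsOk tY7D 12 = true := by
  decide +kernel

theorem tY7_ad : adOk tY7D tY7A 12 = true := by
  decide +kernel

theorem tY7_block : blockE sumY7 tY7A tY7B 0 12 = true := by
  decide +kernel

theorem tY7_span : spanOk tY7Q tY7B tY7M 12 = true := by
  decide +kernel

theorem tY7_lin : linN tY7Q = true ∧ Nat.beq (mulN tY7Q (compl tY7Q)) 0 = true := by
  decide +kernel

theorem stab_Y7 : stabOk tY7Q eY7 = true := by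
  decide +kernel

theorem stab_rev_Y7 : stabOk tY7Q eY7.reverse = true := by
  decide +kernel

theorem sep_Y7 : sepOk powY7 eY7 conjY7 witY7 7 = true := by
  decide +kernel

theorem move_Y7 : moveOk tY7Q moveY7 movePosY7 = true := by
  decide +kernel

theorem mem_Y7 : gl xY7 ∈ Tw :=
  (pow_rows (by norm_num) powOk_Y7).1

theorem inv_Y7 : InvN 7 (gl xY7) (kerQ (ofN tY7Q)) := by
  haveI : Fact (Nat.Prime 7) := ⟨by norm_num⟩
  obtain ⟨hmem, hxp, -⟩ := pow_rows (p := 7) (by norm_num) powOk_Y7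
  have h0 : InvN 7 (gl xY7) (kerQ (ofN 0)) := by rw [ofN_zero, kerQ_zero]; exact invN_top _ _
  have h1 := (span_cert powOk_Y7 (nice_phiE hxp (tw_aut hmem)) tY7_gen tY7_cols tY7_ad
    (block_E powOk_Y7 sumOk_Y7 linN_zero tY7_block) tY7_span h0).2
  exact h1

/-- The normaliser of the subgroup generated by the element is not maximal. -/
theorem notMax_Y7 : ¬ IsCoatom (Subgroup.normalizer
    ((Subgroup.zpowers (⟨gl xY7, mem_Y7⟩ : Tw) : Subgroup Tw) : Set Tw)) :=
  haveI : Fact (Nat.Prime 7) := ⟨by norm_num⟩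
  not_coatom_zpowers powOk_Y7 inv_Y7 tY7_lin.1 tY7_lin.2 stab_Y7 stab_rev_Y7 sep_Y7 move_Y7 mem_Y7

end Cfsg.Agent.H55.TwE6Local
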