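import Cfsg.Agent.H55.TwE6Local.Criterion
import Cfsg.Agent.H55.TwE6Local.DataA7
import Cfsg.Agent.H55.TwE6Local.DataX7
import Cfsg.Agent.H55.TwE6Local.DataY7

/-!
Evaluations for the Sylow subgroup for the prime seven and its eight subgroups of order seven.
-/

set_option autoImplicit false
set_option Elab.async false
set_option maxRecDepth 100000

namespace Cfsg.Agent.H55.TwE6Local

open Cfsg.Agent.H55.Fi22E6
open Cfsg.Agent.H16 Cfsg.Lie

/-- The eight subgroups: conjugating word, source, target. -/
def lineData : List (List ℕ × Bool × ℕ × ℕ) :=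
  [([], true, 0, 1), ([], false, 1, 0)] ++ conjWords.zipWith (fun w t => (w, t)) conjImg

/-- The rows of an element of the Sylow subgroup. -/
noncomputable def rowA (a b : ℕ) : ℕ := prodA.getD (7 * (a % 7) + b % 7) 0

theorem prod_ok : (List.range 49).all (fun i =>
    Nat.beq (mulN (powX7.getD (i / 7) 0) (powY7.getD (i % 7) 0)) (prodA.getD i 0)) = true := by decide +kernel

theorem commute_ok : Nat.beq (mulN (powX7.getD 1 0) (powY7.getD 1 0)) (mulN (powY7.getD 1 0) (powX7.getD 1 0)) = true := by
  decide +kernel

theorem nontrivial_ok : (List.range 49).all (fun i => decide (i = 0) ||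
    ((List.range 78).any fun k => (List.range 78).any fun l => differ (prodA.getD i 0) oneN (k, l))) = true := by
  decide +kernel

/-- The code of the trace. -/
noncomputable def traceN (R : ℕ) : ℕ := xorUpTo (fun k => getP R k k) 78

theorem trace_ok : Nat.beq (traceN (powY7.getD 1 0)) 1 = true ∧ ((List.range 7).all fun a => (List.range 7).all fun b =>
    !(Nat.beq (traceN (rowA a b)) 1) ||
      ((List.range 8).any fun k => (List.range 7).any fun j =>
        (lineData.getD k ([], false, 0, 0)).2.1 && decide (a = (lineData.getD k ([], false, 0, 0)).2.2.1 * j % 7) &&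
          decide (b = (lineData.getD k ([], false, 0, 0)).2.2.2 * j % 7) && decide (j ≠ 0))) = true := by decide +kernel

theorem lines_ok : (List.range 7).all (fun a => (List.range 7).all fun b => decide (a = 0 ∧ b = 0) ||
    ((List.range 8).any fun k => (List.range 7).any fun j =>
      decide (a = (lineData.getD k ([], false, 0, 0)).2.2.1 * j % 7) &&
        decide (b = (lineData.getD k ([], false, 0, 0)).2.2.2 * j % 7) && decide (j ≠ 0))) = true := by decide +kernel

theorem conj_ok : lineData.all (fun t => letters t.1 &&
    Nat.beq (mulN (mulN (prodN genData t.1) (if t.2.1 then powY7.getD 1 0 else powX7.getD 1 0)) (prodN genData t.1.reverse))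
      (rowA t.2.2.1 t.2.2.2)) = true := by decide +kernel

/-- The lines whose images make up the subspace. -/
def partsA : List ℕ := [0, 2, 3, 5]

theorem parts_ok : partsA.all (fun k => (lineData.getD k ([], false, 0, 0)).2.1) = true ∧
    (List.range 8).all (fun k => !(lineData.getD k ([], false, 0, 0)).2.1 || partsA.contains k) = true := by decide +kernel

/-- The rows of one part. -/
noncomputable def partA (i : ℕ) : ℕ :=
  mulN (prodN genData (lineData.getD (partsA.getD i 0) ([], false, 0, 0)).1) (compl tY7Q)

theorem inclA_ok : (List.range 4).all (fun i => Nat.beq (mulN tA7Q (partA i)) 0) = true := by decide +kernel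

theorem spanA_ok : Nat.beq (tA7Q ^^^ xorUpTo (fun i => mulN (partA i) (tA7M.getD i 0)) 4) oneN = true := by decide +kernel

theorem linA_ok : linN tA7Q = true ∧ Nat.beq (mulN tA7Q (compl tA7Q)) 0 = true ∧ tA7M.all linN = true := by decide +kernel

theorem stab_A7 : stabOk tA7Q eA7 = true := by decide +kernel

theorem stab_rev_A7 : stabOk tA7Q eA7.reverse = true := by decide +kernel

theorem sep_A7 : (letters eA7 &&
    Nat.beq (mulN (mulN (prodN genData eA7) (powX7.getD 1 0)) (prodN genData eA7.reverse)) conjA7 &&
    (List.range 49).all fun i => differ conjA7 (prodA.getD i 0) (witA7.getD i (0, 0))) = true := by decide +kernel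

theorem move_A7 : moveOk tA7Q moveA7 movePosA7 = true := by decide +kernel

end Cfsg.Agent.H55.TwE6Local
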