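import Cfsg.Agent.H55.TwE6Local.Case

/-!
A normaliser contained in the stabiliser of a subspace is not maximal when that stabiliser is larger and proper.
-/

set_option autoImplicit false
set_option maxRecDepth 100000

namespace Cfsg.Agent.H55.TwE6Local

open Cfsg.Agent.H55.Fi22E6
open Cfsg.Lie Cfsg.Agent.H16

theorem not_coatom {P : Subgroup Tw} {W : Submodule F4 Vec4}
    (hN : ∀ n : Tw, n ∈ Subgroup.normalizer (P : Set Tw) → ∀ w ∈ W, Matrix.mulVec ((n : GL chevE6.Idx F4) : Mat4) w ∈ W)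
    {e : GL chevE6.Idx F4} (he : e ∈ Tw) (hes : e ∈ stabW W)
    (hen : (⟨e, he⟩ : Tw) ∉ Subgroup.normalizer (P : Set Tw)) {g : GL chevE6.Idx F4} (hg : g ∈ Tw)
    (hgs : g ∉ stabW W) : ¬ IsCoatom (Subgroup.normalizer (P : Set Tw)) := by
  intro h
  have hle : Subgroup.normalizer (P : Set Tw) ≤ (stabW W).subgroupOf Tw := fun n hn =>
    Subgroup.mem_subgroupOf.2 (mem_stabW (hN n hn) (hN n⁻¹ (inv_mem hn)))
  rcases hle.eq_or_lt with h' | h'
  · exact hen (h' ▸ (Subgroup.mem_subgroupOf.2 hes : (⟨e, he⟩ : Tw) ∈ (stabW W).subgroupOf Tw))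
  · have ht := h.2 _ h'
    exact hgs (Subgroup.mem_subgroupOf.1 (ht ▸ Subgroup.mem_top (⟨g, hg⟩ : Tw)))

/-- The certificate for a subgroup of prime order. -/
theorem not_coatom_zpowers {p : ℕ} [hp : Fact p.Prime] {pw w e : List ℕ} {Q C g : ℕ} {wit : List (ℕ × ℕ)}
    {pos : ℕ × ℕ} (hw : powOk pw w p = true) (hinv : InvN p (gl w) (kerQ (ofN Q))) (hQ : linN Q = true)
    (hi : Nat.beq (mulN Q (compl Q)) 0 = true) (hs1 : stabOk Q e = true) (hs2 : stabOk Q e.reverse = true)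
    (hsep : sepOk pw e C wit p = true) (hmove : moveOk Q g pos = true) (hmem : gl w ∈ Tw) :
    ¬ IsCoatom (Subgroup.normalizer ((Subgroup.zpowers (⟨gl w, hmem⟩ : Tw) : Subgroup Tw) : Set Tw)) := by
  obtain ⟨-, hxp, hpow⟩ := pow_rows hp.out.one_lt hw
  simp only [sepOk, Bool.and_eq_true, List.all_eq_true (p := fun i => differ _ _ _), List.mem_range] at hsep
  obtain ⟨⟨hle, hC⟩, hwit⟩ := hsep
  have hC' : IsG (gl e * gl w * (gl e)⁻¹) C := by
    rw [← gl_reverse hle, ← Nat.eq_of_beq_eq_true hC]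
    have h1 := hpow 1
    rw [pow_one, Nat.mod_eq_of_lt hp.out.one_lt] at h1
    exact ((gl_rows hle).mul h1).mul (gl_rows (by simpa [letters] using hle))
  have hne : ∀ k : ℕ, gl e * gl w * (gl e)⁻¹ ≠ gl w ^ k := fun k =>
    hC'.ne (hpow k) (hwit (k % p) (Nat.mod_lt _ hp.out.pos))
  obtain ⟨hg, hgs⟩ := move_cert hQ hi hmove
  refine not_coatom ?_ (gl_mem hle) (stab_cert hle hQ hs1 hs2) ?_ hg hgs
  · intro n hn
    have h1 := (Subgroup.mem_normalizer_iff.1 hn ⟨gl w, hmem⟩).1 (Subgroup.mem_zpowers _)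
    have hfin : IsOfFinOrder (⟨gl w, hmem⟩ : Tw) :=
      isOfFinOrder_iff_pow_eq_one.2 ⟨p, hp.out.pos, Subtype.ext hxp⟩
    obtain ⟨m, hm⟩ := hfin.mem_powers_iff_mem_zpowers.2 h1
    have hm' : (n : GL chevE6.Idx F4) * gl w * (n : GL chevE6.Idx F4)⁻¹ = gl w ^ m := (congrArg Subtype.val hm).symm
    refine hinv n n.2 m (fun h0 => ?_) hm'
    obtain ⟨r, rfl⟩ := (ZMod.natCast_eq_zero_iff m p).1 h0
    rw [pow_mul, hxp, one_pow, conj_eq_one_iff] at hm'
    exact hne 0 (by rw [pow_zero, hm', mul_one, mul_inv_cancel])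
  · intro hen
    have h1 := (Subgroup.mem_normalizer_iff.1 hen ⟨gl w, hmem⟩).1 (Subgroup.mem_zpowers _)
    obtain ⟨m, hm⟩ := Subgroup.mem_zpowers_iff.1 h1
    have hfin : IsOfFinOrder (⟨gl w, hmem⟩ : Tw) :=
      isOfFinOrder_iff_pow_eq_one.2 ⟨p, hp.out.pos, Subtype.ext hxp⟩
    obtain ⟨k, hk⟩ := hfin.mem_powers_iff_mem_zpowers.2 h1
    exact hne k (congrArg Subtype.val hk).symm

end Cfsg.Agent.H55.TwE6Local
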