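import Cfsg.Agent.H55.TwE6Local.Base

/-!
Evaluations for the sixteen generators: products, squares, and compatibility with the adjoint matrices.
-/

set_option autoImplicit false
set_option Elab.async false
set_option maxRecDepth 100000

namespace Cfsg.Agent.H55.TwE6Local

open Cfsg.Agent.H55.Fi22E6
open Cfsg.Agent.H16

theorem lin_roots : rootData.all linN = true := by decide +kernel

theorem lin_ad : adData.all linN = true ∧ linN wData = true := by decide +kernel

theorem lengths : rootData.length = 28 ∧ rootPairs.length = 28 ∧ baseWords.length = 16 ∧ genData.length = 16 ∧
    adData.length = 78 ∧ baseWords.all (fun w => w.all fun k => decide (k < 28)) = true := by decide +kernel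

theorem scalar_w : (List.range 78).all (fun k => (List.range 78).all fun l =>
    Nat.beq (getP wData k l) (if Nat.beq k l then 2 else 0)) = true := by decide +kernel

theorem gen_prod : (List.range 16).all (fun g =>
    Nat.beq (prodN rootData (baseWords.getD g [])) (genData.getD g 0)) = true := by decide +kernel

theorem gen_sq : (List.range 16).all (fun g =>
    Nat.beq (mulN (genData.getD g 0) (genData.getD g 0)) oneN) = true := by decide +kernel

/-- The compatibility of one generator with the adjoint matrices. -/
noncomputable def equivOk (g : ℕ) : Bool := (List.range 78).all fun k =>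
  Nat.beq (mulN (genData.getD g 0) (adData.getD k 0)) (mulN (adN (genData.getD g 0) k) (genData.getD g 0))

theorem equiv_ok0 : equivOk 0 = true := by decide +kernel

theorem equiv_ok1 : equivOk 1 = true := by decide +kernel

theorem equiv_ok2 : equivOk 2 = true := by decide +kernel

theorem equiv_ok3 : equivOk 3 = true := by decide +kernel

theorem equiv_ok4 : equivOk 4 = true := by decide +kernel

theorem equiv_ok5 : equivOk 5 = true := by decide +kernel

theorem equiv_ok6 : equivOk 6 = true := by decide +kernel

theorem equiv_ok7 : equivOk 7 = true := by decide +kernel

theorem equiv_ok8 : equivOk 8 = true := by decide +kernel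

theorem equiv_ok9 : equivOk 9 = true := by decide +kernel

theorem equiv_ok10 : equivOk 10 = true := by decide +kernel

theorem equiv_ok11 : equivOk 11 = true := by decide +kernel

theorem equiv_ok12 : equivOk 12 = true := by decide +kernel

theorem equiv_ok13 : equivOk 13 = true := by decide +kernel

theorem equiv_ok14 : equivOk 14 = true := by decide +kernel

theorem equiv_ok15 : equivOk 15 = true := by decide +kernel

theorem equiv_ok {g : ℕ} (hg : g < 16) : equivOk g = true := by
  interval_cases g
  · exact equiv_ok0
  · exact equiv_ok1
  · exact equiv_ok2
  · exact equiv_ok3
  · exact equiv_ok4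
  · exact equiv_ok5
  · exact equiv_ok6
  · exact equiv_ok7
  · exact equiv_ok8
  · exact equiv_ok9
  · exact equiv_ok10
  · exact equiv_ok11
  · exact equiv_ok12
  · exact equiv_ok13
  · exact equiv_ok14
  · exact equiv_ok15

end Cfsg.Agent.H55.TwE6Local
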