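import Cfsg.Agent.H55.TwE6Local.Base

/-!
Evaluations for the root elements used.
-/

set_option autoImplicit false
set_option Elab.async false
set_option maxRecDepth 100000

namespace Cfsg.Agent.H55.TwE6Local

theorem row_ok14_0 : (((List.finRange 78).drop 0).take 39).all (rowOk 14) = true := by
  decide +kernel

theorem row_ok14_1 : (((List.finRange 78).drop 39).take 39).all (rowOk 14) = true := by
  decide +kernel

theorem row_ok15_0 : (((List.finRange 78).drop 0).take 39).all (rowOk 15) = true := by
  decide +kernel

theorem row_ok15_1 : (((List.finRange 78).drop 39).take 39).all (rowOk 15) = true := by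
  decide +kernel

theorem row_ok16_0 : (((List.finRange 78).drop 0).take 39).all (rowOk 16) = true := by
  decide +kernel

theorem row_ok16_1 : (((List.finRange 78).drop 39).take 39).all (rowOk 16) = true := by
  decide +kernel

theorem row_ok17_0 : (((List.finRange 78).drop 0).take 39).all (rowOk 17) = true := by
  decide +kernel

theorem row_ok17_1 : (((List.finRange 78).drop 39).take 39).all (rowOk 17) = true := by
  decide +kernel

theorem row_ok18_0 : (((List.finRange 78).drop 0).take 39).all (rowOk 18) = true := by
  decide +kernel

theorem row_ok18_1 : (((List.finRange 78).drop 39).take 39).all (rowOk 18) = true := by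
  decide +kernel

theorem row_ok19_0 : (((List.finRange 78).drop 0).take 39).all (rowOk 19) = true := by
  decide +kernel

theorem row_ok19_1 : (((List.finRange 78).drop 39).take 39).all (rowOk 19) = true := by
  decide +kernel

theorem row_ok20_0 : (((List.finRange 78).drop 0).take 39).all (rowOk 20) = true := by
  decide +kernel

theorem row_ok20_1 : (((List.finRange 78).drop 39).take 39).all (rowOk 20) = true := by
  decide +kernel

theorem row_ok21_0 : (((List.finRange 78).drop 0).take 39).all (rowOk 21) = true := by
  decide +kernel

theorem row_ok21_1 : (((List.finRange 78).drop 39).take 39).all (rowOk 21) = true := by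
  decide +kernel

theorem row_ok22_0 : (((List.finRange 78).drop 0).take 39).all (rowOk 22) = true := by
  decide +kernel

theorem row_ok22_1 : (((List.finRange 78).drop 39).take 39).all (rowOk 22) = true := by
  decide +kernel

theorem row_ok23_0 : (((List.finRange 78).drop 0).take 39).all (rowOk 23) = true := by
  decide +kernel

theorem row_ok23_1 : (((List.finRange 78).drop 39).take 39).all (rowOk 23) = true := by
  decide +kernel

theorem row_ok24_0 : (((List.finRange 78).drop 0).take 39).all (rowOk 24) = true := by
  decide +kernel

theorem row_ok24_1 : (((List.finRange 78).drop 39).take 39).all (rowOk 24) = true := by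
  decide +kernel

theorem row_ok25_0 : (((List.finRange 78).drop 0).take 39).all (rowOk 25) = true := by
  decide +kernel

theorem row_ok25_1 : (((List.finRange 78).drop 39).take 39).all (rowOk 25) = true := by
  decide +kernel

theorem row_ok26_0 : (((List.finRange 78).drop 0).take 39).all (rowOk 26) = true := by
  decide +kernel

theorem row_ok26_1 : (((List.finRange 78).drop 39).take 39).all (rowOk 26) = true := by
  decide +kernel

theorem row_ok27_0 : (((List.finRange 78).drop 0).take 39).all (rowOk 27) = true := by
  decide +kernel

theorem row_ok27_1 : (((List.finRange 78).drop 39).take 39).all (rowOk 27) = true := by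
  decide +kernel


end Cfsg.Agent.H55.TwE6Local
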