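import Cfsg.Agent.H55.TwE6Local.RootsA
import Cfsg.Agent.H55.TwE6Local.RootsB
import Cfsg.Agent.H55.TwE6Local.GenCheck
import Cfsg.Agent.H46.TwistOrder
import Cfsg.Agent.H46.TwistE6

/-!
The twisted group of type E₆ over the field with four elements as a group of automorphisms of the adjoint
Lie bracket, and evaluation of words in its generators.
-/

set_option autoImplicit false
set_option maxRecDepth 100000

namespace Cfsg.Agent.H55.TwE6Local

open Cfsg.Agent.H55.Fi22E6
open Cfsg.Lie Cfsg.Agent.H16 Cfsg.Agent.H46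
open scoped Matrix

/-- Matrices on the adjoint module. -/
abbrev Mat4 := Matrix chevE6.Idx chevE6.Idx F4

/-- Vectors of the adjoint module. -/
abbrev Vec4 := chevE6.Idx → F4

/-- The twisted group. -/
abbrev Tw : Subgroup (GL chevE6.Idx F4) := twistedE6 F4 2

/-- Evaluation of packed rows. -/
noncomputable def ofN (N : ℕ) : Mat4 := Matrix.of fun i j => F4.fromNat (getP N (idx i) (idx j))

theorem is_ofN {N : ℕ} (h : linN N = true) : Is (ofN N) N := by
  refine Is.of_codes (fun k l => ?_) fun k l => ?_
  · simp only [linN, List.all_eq_true, List.mem_range] at h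
    exact Nat.eq_of_beq_eq_true (h k k.isLt l l.isLt)
  · simp only [ofN, Matrix.of_apply, Equiv.apply_symm_apply]

theorem lin_ad_getD (k : Fin 78) : linN (adData.getD k.val 0) = true := by
  have hk : k.val < adData.length := lengths.2.2.2.2.1.symm ▸ k.isLt
  rw [List.getD_eq_getElem _ _ hk]
  exact List.all_eq_true.1 lin_ad.1 _ (List.getElem_mem hk)

/-- The adjoint matrix of a basis vector. -/
noncomputable def adM (k : Fin 78) : Mat4 := ofN (adData.getD k.val 0)

theorem is_adM (k : Fin 78) : Is (adM k) (adData.getD k.val 0) := is_ofN (lin_ad_getD k)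

/-- The adjoint matrix of a vector: the bracket with it. -/
noncomputable def ad (v : Vec4) : Mat4 := ∑ k : Fin 78, v (idx.symm k) • adM k

theorem ad_add (u v : Vec4) : ad (u + v) = ad u + ad v := by
  simp only [ad, Pi.add_apply, add_smul, Finset.sum_add_distrib]

theorem ad_smul (c : F4) (v : Vec4) : ad (c • v) = c • ad v := by
  simp only [ad, Pi.smul_apply, smul_eq_mul, ← smul_smul, Finset.smul_sum]

theorem ad_sum {ι : Type*} (s : Finset ι) (v : ι → Vec4) : ad (∑ i ∈ s, v i) = ∑ i ∈ s, ad (v i) :=
  map_sum (AddMonoidHom.mk' ad ad_add) v s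

/-- The first digit of an element of the field. -/
def low : F4 → Bool
  | .one => true
  | .w2 => true
  | _ => false

/-- The second digit of an element of the field. -/
def high : F4 → Bool
  | .w => true
  | .w2 => true
  | _ => false

theorem digits : ∀ x : F4, x = (if low x then 1 else 0) + F4.w * (if high x then 1 else 0) := by decide

theorem digit_code : ∀ v : Fin 4, low (F4.fromNat v.val) = v.val.testBit 0 ∧
    high (F4.fromNat v.val) = v.val.testBit 1 := by decide

theorem is_wData : Is (F4.w • (1 : Mat4)) wData := by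
  have e : (F4.w • (1 : Mat4)) = ofN wData := by
    ext i j
    have h := scalar_w
    simp only [List.all_eq_true, List.mem_range] at h
    rw [ofN, Matrix.of_apply, Nat.eq_of_beq_eq_true (h _ (idx i).isLt _ (idx j).isLt), Matrix.smul_apply,
      Matrix.one_apply]
    by_cases hij : i = j
    · subst hij; simp; rfl
    · have hne : ¬ Nat.beq (idx i).val (idx j).val = true := fun hb =>
        hij (idx.injective (Fin.ext (Nat.eq_of_beq_eq_true hb)))
      simp [hij, hne]; rfl
  rw [e]
  exact is_ofN lin_ad.2

theorem is_partial (P : ℕ → Bool) : ∀ n, n ≤ 78 →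
    Is (∑ k ∈ Finset.univ.filter fun k : Fin 78 => k.val < n, (if P k.val then (1 : F4) else 0) • adM k)
      (xorUpTo (fun k => if P k then adData.getD k 0 else 0) n)
  | 0, _ => by
    rw [Finset.filter_false_of_mem fun k _ => Nat.not_lt_zero _, Finset.sum_empty]
    exact Is.zero
  | n + 1, hn => by
    have e : (Finset.univ.filter fun k : Fin 78 => k.val < n + 1) =
        insert (⟨n, hn⟩ : Fin 78) (Finset.univ.filter fun k : Fin 78 => k.val < n) := by
      ext k; simp [Fin.ext_iff]; omega
    rw [e, Finset.sum_insert (by simp), add_comm, xorUpTo]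
    refine (is_partial P n (by omega)).add ?_
    cases hP : P n
    · simp only [Bool.false_eq_true, if_false, zero_smul]; exact Is.zero
    · simp only [if_true, one_smul]; exact is_adM ⟨n, hn⟩

/-- The adjoint matrix of a column of a packed matrix. -/
theorem is_ad_col {M : Mat4} {D : ℕ} (h : Is M D) (j : Fin 78) :
    Is (ad fun i => M i (idx.symm j)) (adN D j.val) := by
  have hd : ∀ k : Fin 78, M (idx.symm k) (idx.symm j) =
      (if (getP D k.val j.val).testBit 0 then 1 else 0) + F4.w * (if (getP D k.val j.val).testBit 1 then 1 else 0) :=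
    fun k => by
      have := digit_code ⟨getP D k.val j.val, Nat.mod_lt _ (by norm_num)⟩
      rw [h.entry, digits (F4.fromNat _), this.1, this.2]
  have e : ad (fun i => M i (idx.symm j)) =
      (∑ k ∈ Finset.univ.filter fun k : Fin 78 => k.val < 78,
        (if (getP D k.val j.val).testBit 0 then (1 : F4) else 0) • adM k) +
      (F4.w • (1 : Mat4)) * ∑ k ∈ Finset.univ.filter fun k : Fin 78 => k.val < 78,
        (if (getP D k.val j.val).testBit 1 then (1 : F4) else 0) • adM k := by
    rw [Finset.filter_true_of_mem fun k _ => k.isLt, Matrix.smul_mul, one_mul, Finset.smul_sum,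
      ← Finset.sum_add_distrib, ad]
    refine Finset.sum_congr rfl fun k _ => ?_
    rw [hd, add_smul, smul_smul]
  rw [e]
  exact (is_partial (fun k => (getP D k j.val).testBit 0) 78 le_rfl).add
    (is_wData.mul (is_partial (fun k => (getP D k j.val).testBit 1) 78 le_rfl))

/-- The rows of an invertible matrix. -/
def IsG (g : GL chevE6.Idx F4) (R : ℕ) : Prop := Is (g : Mat4) R

theorem IsG.ext {g h : GL chevE6.Idx F4} {R : ℕ} (h1 : IsG g R) (h2 : IsG h R) : g = h :=
  Units.ext (Is.ext h1 h2)

theorem IsG.one : IsG 1 oneN := by rw [IsG, Units.val_one]; exact Is.one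

theorem IsG.mul {g h : GL chevE6.Idx F4} {R S : ℕ} (h1 : IsG g R) (h2 : IsG h S) :
    IsG (g * h) (mulN R S) := by rw [IsG, Units.val_mul]; exact Is.mul h1 h2

theorem IsG.prod {M : ℕ → GL chevE6.Idx F4} {T : List ℕ} : ∀ w : List ℕ,
    (∀ k ∈ w, IsG (M k) (T.getD k 0)) → IsG ((w.map M).prod) (prodN T w)
  | [], _ => IsG.one
  | k :: w, h => by
    rw [List.map_cons, List.prod_cons]
    exact (h k List.mem_cons_self).mul (IsG.prod w fun l hl => h l (List.mem_cons_of_mem _ hl))

theorem IsG.ne {g h : GL chevE6.Idx F4} {R S : ℕ} {p : ℕ × ℕ} (h1 : IsG g R) (h2 : IsG h S)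
    (hd : differ R S p = true) : g ≠ h := by
  rintro rfl
  simp only [differ, Bool.and_eq_true, decide_eq_true_eq, Bool.not_eq_true'] at hd
  obtain ⟨⟨hk, hl⟩, hne⟩ := hd
  have inj : ∀ a b : Fin 4, F4.fromNat a.val = F4.fromNat b.val → a = b := by decide
  have e := congrArg Fin.val (inj ⟨getP R p.1 p.2, Nat.mod_lt _ (by norm_num)⟩ ⟨getP S p.1 p.2, Nat.mod_lt _ (by norm_num)⟩
    ((Is.entry h1 ⟨p.1, hk⟩ ⟨p.2, hl⟩).symm.trans (Is.entry h2 ⟨p.1, hk⟩ ⟨p.2, hl⟩)))
  simp only at e
  rw [e, Nat.beq_refl] at hne
  exact absurd hne (by simp)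

theorem root_ok {n : ℕ} (hn : n < 28) (k : Fin 78) : rowOk n k = true := by
  have key : ∀ m, (((List.finRange 78).drop 0).take 39).all (rowOk m) = true →
      (((List.finRange 78).drop 39).take 39).all (rowOk m) = true → rowOk m k = true := by
    intro m h1 h2
    have : ((List.finRange 78)).all (rowOk m) = true := by
      rw [show List.finRange 78 = ((List.finRange 78).drop 0).take 39 ++ ((List.finRange 78).drop 39).take 39 by
        decide +kernel, List.all_append, h1, h2]
      rfl
    exact List.all_eq_true.1 this k (List.mem_finRange k)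
  interval_cases n
  · exact key 0 row_ok0_0 row_ok0_1
  · exact key 1 row_ok1_0 row_ok1_1
  · exact key 2 row_ok2_0 row_ok2_1
  · exact key 3 row_ok3_0 row_ok3_1
  · exact key 4 row_ok4_0 row_ok4_1
  · exact key 5 row_ok5_0 row_ok5_1
  · exact key 6 row_ok6_0 row_ok6_1
  · exact key 7 row_ok7_0 row_ok7_1
  · exact key 8 row_ok8_0 row_ok8_1
  · exact key 9 row_ok9_0 row_ok9_1
  · exact key 10 row_ok10_0 row_ok10_1
  · exact key 11 row_ok11_0 row_ok11_1
  · exact key 12 row_ok12_0 row_ok12_1
  · exact key 13 row_ok13_0 row_ok13_1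
  · exact key 14 row_ok14_0 row_ok14_1
  · exact key 15 row_ok15_0 row_ok15_1
  · exact key 16 row_ok16_0 row_ok16_1
  · exact key 17 row_ok17_0 row_ok17_1
  · exact key 18 row_ok18_0 row_ok18_1
  · exact key 19 row_ok19_0 row_ok19_1
  · exact key 20 row_ok20_0 row_ok20_1
  · exact key 21 row_ok21_0 row_ok21_1
  · exact key 22 row_ok22_0 row_ok22_1
  · exact key 23 row_ok23_0 row_ok23_1
  · exact key 24 row_ok24_0 row_ok24_1
  · exact key 25 row_ok25_0 row_ok25_1
  · exact key 26 row_ok26_0 row_ok26_1
  · exact key 27 row_ok27_0 row_ok27_1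

/-- The root elements used. -/
noncomputable def rootGL (n : ℕ) : GL chevE6.Idx F4 :=
  goodE6.xg (rootPairs.getD n (0, 0)).1 (rootPairs.getD n (0, 0)).2

theorem code_inv : ∀ x : F4, F4.fromNat (F4.toNat x) = x := by decide

theorem rootGL_rows {n : ℕ} (hn : n < 28) : IsG (rootGL n) (rootData.getD n 0) := by
  have hlt : n < rootData.length := lengths.1.symm ▸ hn
  have hL := List.all_eq_true.1 lin_roots _ (List.getElem_mem hlt)
  simp only [linN, List.all_eq_true, List.mem_range] at hL
  refine Is.of_codes (fun k l => ?_) fun k l => ?_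
  · rw [List.getD_eq_getElem _ _ hlt]
    exact Nat.eq_of_beq_eq_true (hL k k.isLt l l.isLt)
  · have h := root_ok hn k
    simp only [rowOk, List.all_eq_true] at h
    rw [← Nat.eq_of_beq_eq_true (h l (List.mem_finRange l)), code_inv]
    rfl

/-- The sixteen generators. -/
noncomputable def baseGL (n : ℕ) : GL chevE6.Idx F4 := ((baseWords.getD n []).map rootGL).prod

theorem baseGL_rows {n : ℕ} (hn : n < 16) : IsG (baseGL n) (genData.getD n 0) := by
  rw [← Nat.eq_of_beq_eq_true (List.all_eq_true.1 gen_prod n (List.mem_range.2 hn))]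
  refine IsG.prod _ fun k hk => rootGL_rows ?_
  have hlt : n < baseWords.length := lengths.2.2.1.symm ▸ hn
  rw [List.getD_eq_getElem _ _ hlt] at hk
  exact of_decide_eq_true (List.all_eq_true.1 (List.all_eq_true.1 lengths.2.2.2.2.2 _ (List.getElem_mem hlt)) k hk)

theorem baseGL_sq {n : ℕ} (hn : n < 16) : baseGL n * baseGL n = 1 :=
  ((baseGL_rows hn).mul (baseGL_rows hn)).ext
    (Nat.eq_of_beq_eq_true (List.all_eq_true.1 gen_sq n (List.mem_range.2 hn)) ▸ IsG.one)

/-- The value of a word in the generators. -/
noncomputable def gl (w : List ℕ) : GL chevE6.Idx F4 := (w.map baseGL).prod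

/-- The letters of a word are generators. -/
def letters (w : List ℕ) : Bool := w.all fun k => decide (k < 16)

theorem gl_rows {w : List ℕ} (hw : letters w = true) : IsG (gl w) (prodN genData w) :=
  IsG.prod w fun k hk => baseGL_rows (of_decide_eq_true (List.all_eq_true.1 hw k hk))

theorem gl_reverse : ∀ {w : List ℕ}, letters w = true → gl w.reverse = (gl w)⁻¹
  | [], _ => by simp [gl]
  | k :: w, h => by
    simp only [letters, List.all_cons, Bool.and_eq_true, decide_eq_true_eq] at h
    have ih := gl_reverse (w := w) (by simpa [letters] using h.2)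
    simp only [gl] at ih ⊢
    rw [List.reverse_cons, List.map_append, List.prod_append, ih, List.map_cons, List.map_nil, List.prod_singleton,
      List.map_cons, List.prod_cons, mul_inv_rev, inv_eq_of_mul_eq_one_right (baseGL_sq h.1)]

end Cfsg.Agent.H55.TwE6Local
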