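import Cfsg.Agent.H16.F4
import Mathlib

/-!
A field with four elements receives the explicit one.
-/

set_option autoImplicit false

namespace Cfsg.Agent.H55.TwE6Local

open Cfsg.Agent.H16

variable (K : Type*) [Field K] [Fintype K] (hK : Fintype.card K = 4)

include hK

theorem charTwo : CharP K 2 := by
  obtain ⟨p, hp⟩ := CharP.exists K
  obtain ⟨a, hpp, ha⟩ := FiniteField.card K p
  have h2 : p ∣ 2 := hpp.dvd_of_dvd_pow (n := 2) (by
    rw [show (2 : ℕ) ^ 2 = p ^ (a : ℕ) from hK.symm.trans ha]
    exact dvd_pow_self p a.ne_zero)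
  obtain rfl := (Nat.prime_dvd_prime_iff_eq hpp Nat.prime_two).1 h2
  exact hp

theorem exists_hom : ∃ ω : Kˣ, orderOf ω = 3 ∧ (∀ x : Kˣ, x ^ 3 = 1) ∧ Nonempty (F4 →+* K) := by
  classical
  haveI := charTwo K hK
  have hunits : Nat.card Kˣ = 3 := by rw [Nat.card_eq_fintype_card, Fintype.card_units, hK]
  obtain ⟨ω, hω'⟩ := IsCyclic.exists_generator (α := Kˣ)
  have hω : orderOf ω = 3 := (orderOf_eq_card_of_forall_mem_zpowers hω').trans hunits
  have h3 : (ω : K) ^ 3 = 1 := by rw [← Units.val_pow_eq_pow_val, ← hω, pow_orderOf_eq_one, Units.val_one]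
  have h1 : (ω : K) ≠ 1 := fun h => by
    rw [show ω = 1 from Units.ext h, orderOf_one] at hω
    norm_num at hω
  have hq : (ω : K) ^ 2 + (ω : K) + 1 = 0 := by
    have : ((ω : K) - 1) * ((ω : K) ^ 2 + (ω : K) + 1) = 0 := by
      rw [show ((ω : K) - 1) * ((ω : K) ^ 2 + (ω : K) + 1) = (ω : K) ^ 3 - 1 by ring, h3, sub_self]
    exact (mul_eq_zero.1 this).resolve_left (sub_ne_zero.2 h1)
  have htwo : (2 : K) = 0 := CharTwo.two_eq_zero
  let e : F4 → K := fun x => match x with
    | .zero => 0
    | .one => 1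
    | .w => (ω : K)
    | .w2 => (ω : K) + 1
  refine ⟨ω, hω, fun x => by rw [← hunits]; exact pow_card_eq_one', ⟨RingHom.mk' ⟨⟨e, rfl⟩, ?_⟩ ?_⟩⟩
  · intro x y
    cases x <;> cases y <;>
      simp only [show ∀ a b : F4, a * b = F4.mul a b from fun _ _ => rfl, F4.mul, e] <;>
      first
        | ring1
        | linear_combination ((ω : K) + 1) * htwo - hq
        | linear_combination htwo - hq
        | linear_combination -hq
  · intro x y
    cases x <;> cases y <;>
      simp only [show ∀ a b : F4, a + b = F4.add a b from fun _ _ => rfl, F4.add, MonoidHom.coe_mk, OneHom.coe_mk, e] <;>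
      first
        | ring1
        | linear_combination -htwo
        | linear_combination -(ω : K) * htwo
        | linear_combination -((ω : K) + 1) * htwo

end Cfsg.Agent.H55.TwE6Local
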