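import Cfsg.Agent.H55.TwE6Local.Elements

/-!
The sixteen generators generate the twisted group, which therefore acts by automorphisms of the bracket.
-/

set_option autoImplicit false
set_option maxRecDepth 100000

namespace Cfsg.Agent.H55.TwE6Local

open Cfsg.Agent.H55.Fi22E6
open Cfsg.Lie Cfsg.Agent.H16 Cfsg.Agent.H46
open scoped Matrix

/-- The root elements of a generator. -/
noncomputable def basePairs (n : ℕ) : List (ℕ × F4) := (baseWords.getD n []).map fun k => rootPairs.getD k (0, 0)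

theorem baseGL_coe (n : ℕ) : (baseGL n : Mat4) = chevE6.wordMat F4 (basePairs n) := by
  rw [baseGL, ← Units.coeHom_apply, map_list_prod, ChevalleyDatum.wordMat, basePairs]
  simp only [List.map_map]
  congr 1

theorem word_shape : (List.range 16).all (fun n =>
    match basePairs n with
    | [(r, t)] => decide (r ∈ [e6p2, e6m2, e6p4, e6m4]) && decide (t = 1)
    | [(r, t), (r', t')] => decide ((r, r') ∈ [(e6p1, e6p6), (e6m1, e6m6), (e6p3, e6p5), (e6m3, e6m5)]) &&
        decide (t' = t * t)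
    | _ => false) = true := by decide +kernel

theorem shape_single : ∀ r ∈ [e6p2, e6m2, e6p4, e6m4], ∃ n, n < 16 ∧ basePairs n = [(r, (1 : F4))] := by
  decide +kernel

theorem shape_pair : ∀ rs ∈ [(e6p1, e6p6), (e6m1, e6m6), (e6p3, e6p5), (e6m3, e6m5)], ∀ t : F4, t ≠ 0 →
    ∃ n, n < 16 ∧ basePairs n = [(rs.1, t), (rs.2, t * t)] := by
  decide +kernel

theorem baseGL_mem {n : ℕ} (hn : n < 16) : baseGL n ∈ Tw := by
  have h := List.all_eq_true.1 word_shape n (List.mem_range.2 hn)
  refine Subgroup.subset_closure ⟨basePairs n, ?_, baseGL_coe n⟩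
  rcases hb : basePairs n with _ | ⟨⟨r, t⟩, _ | ⟨⟨r', t'⟩, _ | ⟨q, l⟩⟩⟩
  · rw [hb] at h; exact absurd h (by simp)
  · rw [hb] at h
    simp only [Bool.and_eq_true, decide_eq_true_eq] at h
    exact Or.inl ⟨t, by rw [h.2, one_pow], r, h.1, rfl⟩
  · rw [hb] at h
    simp only [Bool.and_eq_true, decide_eq_true_eq] at h
    exact Or.inr ⟨t, (r, r'), h.1, by rw [h.2, pow_two]⟩
  · rw [hb] at h; exact absurd h (by simp)

theorem gl_mem {w : List ℕ} (hw : letters w = true) : gl w ∈ Tw :=
  Subgroup.list_prod_mem _ fun g hg => by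
    obtain ⟨k, hk, rfl⟩ := List.mem_map.1 hg
    exact baseGL_mem (of_decide_eq_true (List.all_eq_true.1 hw k hk))

theorem tw_le {H : Subgroup (GL chevE6.Idx F4)} (h : ∀ n, n < 16 → baseGL n ∈ H) : Tw ≤ H := by
  refine (Subgroup.closure_le _).2 ?_
  rintro g ⟨w, hw, hg⟩
  rcases hw with ⟨t, ht, r, hr, rfl⟩ | ⟨t, rs, hrs, rfl⟩
  · by_cases ht0 : t = 0
    · have : g = 1 := Units.ext (by rw [hg, ht0]; simp [ChevalleyDatum.wordMat, goodE6.x_zero'])
      rw [this]; exact one_mem H
    · obtain rfl : t = 1 := (by decide : ∀ s : F4, s ^ 2 = s → s ≠ 0 → s = 1) t ht ht0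
      obtain ⟨n, hn, e⟩ := shape_single r hr
      rw [show g = baseGL n from Units.ext (by rw [hg, baseGL_coe, e])]
      exact h n hn
  · by_cases ht0 : t = 0
    · have : g = 1 := Units.ext (by rw [hg, ht0]; simp [ChevalleyDatum.wordMat, goodE6.x_zero'])
      rw [this]; exact one_mem H
    · obtain ⟨n, hn, e⟩ := shape_pair rs hrs t ht0
      rw [show g = baseGL n from Units.ext (by rw [hg, baseGL_coe, e, pow_two])]
      exact h n hn

theorem ad_single (k : Fin 78) : ad (Pi.single (idx.symm k) 1) = adM k := by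
  rw [ad, Finset.sum_eq_single k]
  · rw [Pi.single_eq_same, one_smul]
  · intro j _ hj
    rw [Pi.single_eq_of_ne fun e => hj (idx.symm.injective e), zero_smul]
  · intro h; exact absurd (Finset.mem_univ k) h

/-- The automorphisms of the bracket. -/
def autBr : Subgroup (GL chevE6.Idx F4) where
  carrier := {g | ∀ v : Vec4, (g : Mat4) * ad v = ad ((g : Mat4) *ᵥ v) * (g : Mat4)}
  one_mem' v := by simp
  mul_mem' {a b} ha hb v := by
    rw [Units.val_mul, Matrix.mul_assoc, hb v, ← Matrix.mul_assoc, ha _, Matrix.mulVec_mulVec, Matrix.mul_assoc]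
  inv_mem' {a} ha v := by
    have h := ha ((↑a⁻¹ : Mat4) *ᵥ v)
    rw [Matrix.mulVec_mulVec, Units.mul_inv, Matrix.one_mulVec] at h
    calc (↑a⁻¹ : Mat4) * ad v = (↑a⁻¹ : Mat4) * (ad v * (a : Mat4)) * (↑a⁻¹ : Mat4) := by
          rw [Matrix.mul_assoc, Matrix.mul_assoc, Units.mul_inv, Matrix.mul_one]
      _ = _ := by rw [← h, ← Matrix.mul_assoc (↑a⁻¹ : Mat4), Units.inv_mul, Matrix.one_mul]

theorem baseGL_aut {n : ℕ} (hn : n < 16) : baseGL n ∈ autBr := by
  intro v
  have hg : Is (baseGL n : Mat4) (genData.getD n 0) := baseGL_rows hn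
  have hk : ∀ k : Fin 78, (baseGL n : Mat4) * adM k =
      ad ((baseGL n : Mat4) *ᵥ Pi.single (idx.symm k) 1) * (baseGL n : Mat4) := by
    intro k
    have e : (baseGL n : Mat4) *ᵥ Pi.single (idx.symm k) 1 = fun i => (baseGL n : Mat4) i (idx.symm k) := by
      funext i; simp
    rw [e]
    have h := equiv_ok hn
    simp only [equivOk, List.all_eq_true, List.mem_range] at h
    exact Is.ext (Nat.eq_of_beq_eq_true (h k.val k.isLt) ▸ hg.mul (is_adM k)) ((is_ad_col hg k).mul hg)
  have hv : v = ∑ k : Fin 78, v (idx.symm k) • Pi.single (idx.symm k) (1 : F4) := by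
    funext i
    rw [Finset.sum_apply, Finset.sum_eq_single (idx i)]
    · simp
    · intro j _ hj
      rw [Pi.smul_apply, Pi.single_eq_of_ne (fun e => hj (by rw [e, Equiv.apply_symm_apply])), smul_zero]
    · intro h; exact absurd (Finset.mem_univ _) h
  conv_rhs => rw [hv]
  rw [Matrix.mulVec_sum, ad_sum, ad, Matrix.mul_sum, Matrix.sum_mul]
  refine Finset.sum_congr rfl fun k _ => ?_
  rw [Matrix.mulVec_smul, ad_smul, Matrix.mul_smul, Matrix.smul_mul, hk]

theorem tw_aut : Tw ≤ autBr := tw_le fun _ hn => baseGL_aut hn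

end Cfsg.Agent.H55.TwE6Local
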