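import Cfsg.Agent.H55.TwE6Local.Seven

/-!
The normaliser of the Sylow subgroup for the prime seven is not maximal.
-/

set_option autoImplicit false
set_option maxRecDepth 100000

namespace Cfsg.Agent.H55.TwE6Local

open Cfsg.Agent.H55.Fi22E6
open Cfsg.Lie Cfsg.Agent.H16
open scoped Matrix

theorem conj_mem {P : Subgroup Tw} {n z : Tw} (hn : n ∈ Subgroup.normalizer (P : Set Tw)) (hz : z ∈ P) :
    n * z * n⁻¹ ∈ P :=
  (Subgroup.mem_normalizer_iff.1 hn z).1 hz

/-- The normaliser of the Sylow subgroup permutes the four parts of the subspace. -/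
theorem inv_sylA (n : Tw) (hn : n ∈ Subgroup.normalizer (sylA : Set Tw)) :
    ∀ w ∈ kerQ (ofN tA7Q), ((n : GL chevE6.Idx F4) : Mat4) *ᵥ w ∈ kerQ (ofN tA7Q) := by
  haveI : Fact (Nat.Prime 7) := ⟨by norm_num⟩
  intro w hw
  have hsum : ofN tA7Q + ∑ i ∈ Finset.range 4,
      ((gl (lineAt (partsA.getD i 0)).1 : GL chevE6.Idx F4) : Mat4) * (1 + ofN tY7Q) * ofN (tA7M.getD i 0) = 1 := by
    refine Is.ext ((is_ofN linA_ok.1).add (is_sum_range 4 fun i hi => ?_))
      (Nat.eq_of_beq_eq_true spanA_ok ▸ Is.one)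
    have hk : partsA.getD i 0 < 8 := by interval_cases i <;> decide
    exact (Is.mul (gl_rows (line_letters hk)) (is_compl (is_ofN tY7_lin.1))).mul (is_getD linA_ok.2.2 i)
  have e : w = ∑ i ∈ Finset.range 4, ((gl (lineAt (partsA.getD i 0)).1 : GL chevE6.Idx F4) : Mat4) *ᵥ
      ((1 + ofN tY7Q) *ᵥ (ofN (tA7M.getD i 0) *ᵥ w)) := by
    conv_lhs => rw [← Matrix.one_mulVec w, ← hsum, Matrix.add_mulVec, mem_kerQ.1 hw, zero_add, Matrix.sum_mulVec]
    simp only [Matrix.mulVec_mulVec, Matrix.mul_assoc]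
  rw [e, Matrix.mulVec_sum]
  refine Submodule.sum_mem _ fun i hi => ?_
  rw [Finset.mem_range] at hi
  have hk : partsA.getD i 0 < 8 := by interval_cases i <;> decide
  set k := partsA.getD i 0
  have hsrc : (lineAt k).2.1 = true := List.all_eq_true.1 parts_ok.1 k (by
    show partsA.getD i 0 ∈ partsA
    rw [List.getD_eq_getElem _ _ (show i < partsA.length from hi)]
    exact List.getElem_mem _)
  set u := (1 + ofN tY7Q) *ᵥ (ofN (tA7M.getD i 0) *ᵥ w)
  have hu : u ∈ kerQ (ofN tY7Q) := mem_kerQ.2 (by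
    have h0 : ofN tY7Q * (1 + ofN tY7Q) = 0 :=
      ((is_ofN tY7_lin.1).mul (is_compl (is_ofN tY7_lin.1))).ext (Nat.eq_of_beq_eq_true tY7_lin.2 ▸ Is.zero)
    rw [Matrix.mulVec_mulVec, h0, Matrix.zero_mulVec])
  clear_value u
  -- the image of the source under conjugation by `n` and the part
  have hs : srcAt k = ye := by rw [srcAt, if_pos hsrc]
  have hy : gAt k hk * ye * (gAt k hk)⁻¹ ∈ sylA := by
    rw [← hs, ← pow_one (srcAt k), line_pow]
    exact mem_sylA.2 ⟨_, _, Nat.mod_lt _ (by norm_num), Nat.mod_lt _ (by norm_num), rfl⟩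
  obtain ⟨a, b, ha, hb, hz⟩ := mem_sylA.1 (conj_mem hn hy)
  have htr : traceN (rowA a b) % 4 = 1 := by
    have t1 := trace_rows (xy_rows a b)
    rw [← hz] at t1
    have t2 : (((n * (gAt k hk * ye * (gAt k hk)⁻¹) * n⁻¹ : Tw) : GL chevE6.Idx F4) : Mat4).trace =
        ((ye : GL chevE6.Idx F4) : Mat4).trace := by
      simp only [Subgroup.coe_mul, Subgroup.coe_inv, Units.val_mul]
      rw [Matrix.trace_units_conj, Matrix.trace_units_conj]
    have t3 : ((ye : GL chevE6.Idx F4) : Mat4).trace = F4.fromNat (traceN (powY7.getD 1 0)) := by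
      have hp1 := (pow_rows (p := 7) (by norm_num) powOk_Y7).2.2 1
      rw [pow_one] at hp1
      exact trace_rows hp1
    rw [t2, t3, Nat.eq_of_beq_eq_true trace_ok.1] at t1
    have hlt := (fromNat_sum (fun l => getP (rowA a b) l l) (fun l => Nat.mod_lt _ (by norm_num)) 78).1
    have inj : ∀ a b : Fin 4, F4.fromNat a.val = F4.fromNat b.val → a = b := by decide
    have := congrArg Fin.val (inj ⟨traceN (rowA a b), hlt⟩ ⟨1, by norm_num⟩ t1.symm)
    simp only at this
    rw [this]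
  have hlt := (fromNat_sum (fun l => getP (rowA a b) l l) (fun l => Nat.mod_lt _ (by norm_num)) 78).1
  have htr' : traceN (rowA a b) = 1 := by rw [traceN] at htr ⊢; omega
  have h := List.all_eq_true.1 (List.all_eq_true.1 trace_ok.2 a (List.mem_range.2 ha)) b (List.mem_range.2 hb)
  rw [htr'] at h
  simp only [Nat.beq_refl, Bool.not_true, Bool.false_or, List.any_eq_true, List.mem_range, Bool.and_eq_true,
    decide_eq_true_eq] at h
  obtain ⟨l, hl, j, hj, ⟨⟨hlsrc, ha'⟩, hb'⟩, hj0⟩ := h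
  change (lineAt l).2.1 = true at hlsrc
  change a = (lineAt l).2.2.1 * j % 7 at ha'
  change b = (lineAt l).2.2.2 * j % 7 at hb'
  have hsl : srcAt l = ye := by rw [srcAt, if_pos hlsrc]
  set h0 := (gAt l hl)⁻¹ * n * gAt k hk
  have hconj : h0 * ye * h0⁻¹ = ye ^ j := by
    have e1 : n * (gAt k hk * ye * (gAt k hk)⁻¹) * n⁻¹ = gAt l hl * ye ^ j * (gAt l hl)⁻¹ := by
      have hlp := line_pow hl j
      rw [hsl] at hlp
      rw [hz, hlp, ← ha', ← hb']
    calc h0 * ye * h0⁻¹ = (gAt l hl)⁻¹ * (n * (gAt k hk * ye * (gAt k hk)⁻¹) * n⁻¹) * gAt l hl := by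
          simp only [h0]; group
      _ = ye ^ j := by rw [e1]; group
  have hju : ((h0 : GL chevE6.Idx F4) : Mat4) *ᵥ u ∈ kerQ (ofN tY7Q) := by
    refine inv_Y7 h0 h0.2 j (fun hz0 => ?_) ?_ u hu
    · rw [ZMod.natCast_eq_zero_iff] at hz0
      omega
    · exact congrArg Subtype.val hconj
  have e2 : (((n : GL chevE6.Idx F4) : Mat4) *ᵥ (((gl (lineAt k).1 : GL chevE6.Idx F4) : Mat4) *ᵥ u)) =
      ((gAt l hl : GL chevE6.Idx F4) : Mat4) *ᵥ (((h0 : GL chevE6.Idx F4) : Mat4) *ᵥ u) := by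
    rw [Matrix.mulVec_mulVec, Matrix.mulVec_mulVec, ← Units.val_mul, ← Units.val_mul, ← Subgroup.coe_mul]
    congr 2
    simp only [h0, Subgroup.coe_mul, Subgroup.coe_inv, gAt]
    group
  rw [e2]
  exact part_mem hl hlsrc hju

/-- The normaliser of the Sylow subgroup is not maximal. -/
theorem notMax_A7 : ¬ IsCoatom (Subgroup.normalizer (sylA : Set Tw)) := by
  have h := sep_A7
  simp only [Bool.and_eq_true, List.all_eq_true (p := fun i => differ _ _ _), List.mem_range] at h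
  obtain ⟨⟨hle, hC⟩, hwit⟩ := h
  obtain ⟨hg, hgs⟩ := move_cert linA_ok.1 linA_ok.2.1 move_A7
  refine not_coatom (fun n hn => inv_sylA n hn) (gl_mem hle) (stab_cert hle linA_ok.1 stab_A7 stab_rev_A7) ?_ hg hgs
  intro hen
  have hx : xe ∈ sylA := mem_sylA.2 ⟨1, 0, by norm_num, by norm_num, by simp⟩
  obtain ⟨a, b, ha, hb, hz⟩ := mem_sylA.1 (conj_mem hen hx)
  have hC' : IsG (gl eA7 * gl xX7 * (gl eA7)⁻¹) conjA7 := by
    rw [← gl_reverse hle, ← Nat.eq_of_beq_eq_true hC]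
    have h1 := (pow_rows (p := 7) (by norm_num) powOk_X7).2.2 1
    rw [pow_one] at h1
    exact ((gl_rows hle).mul h1).mul (gl_rows (by simpa [letters] using hle))
  have hd := hwit (7 * (a % 7) + b % 7) (by omega)
  exact hC'.ne (xy_rows a b) hd (congrArg Subtype.val hz)

end Cfsg.Agent.H55.TwE6Local
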