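import Cfsg.Agent.H55.TwE6Local.CaseP11
import Cfsg.Agent.H55.TwE6Local.CaseP13
import Cfsg.Agent.H55.TwE6Local.CaseP17
import Cfsg.Agent.H55.TwE6Local.CaseP19
import Cfsg.Agent.H55.TwE6Local.SevenSylow
import Cfsg.Agent.H55.TwE6Local.Field
import Cfsg.Agent.H65.Chev.FieldFixed

/-!
No local subgroup for a prime above five is maximal in the twisted group of type E₆ over the field with four
elements.
-/

set_option autoImplicit false
set_option maxRecDepth 100000

namespace Cfsg.Agent.H55.TwE6Local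

open Cfsg.Lie Cfsg.Agent.H16
open scoped Matrix MatrixGroups

theorem card_tw : Nat.card Tw = 2 ^ 36 * 3 ^ 9 * 5 ^ 2 * 7 ^ 2 * 11 * 13 * 17 * 19 := by
  have hK : Fintype.card F4 = 2 ^ 2 := by decide
  obtain ⟨f, hf⟩ := Cfsg.Agent.H46.exists_qFrob (F := F4) (q := 2) ⟨2, 1, Nat.prime_two.prime, one_pos, pow_one 2⟩
    (by norm_num : 0 < 2) hK
  have h := Cfsg.Agent.H46.card_twistE6 f hf hK
  rw [← Cfsg.Agent.H46.twistedE6_eq f hf hK] at h
  norm_num at h ⊢
  linarith

section Transport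

variable {G H : Type*} [Group G] [Group H]

theorem isCoatom_normalizer_map (φ : G ≃* H) (P : Subgroup G) :
    IsCoatom (Subgroup.normalizer ((P.map φ.toMonoidHom : Subgroup H) : Set H)) ↔
      IsCoatom (Subgroup.normalizer (P : Set G)) := by
  rw [← Subgroup.map_equiv_normalizer_eq P φ, ← OrderIso.isCoatom_iff (φ.mapSubgroup)]
  rfl

theorem exists_conj_le [Finite G] {p : ℕ} [Fact p.Prime] {P S : Subgroup G} (hP : IsPGroup p P)
    (hS : Nat.card S = p ^ (Nat.card G).factorization p) : ∃ g : G, P.map (MulAut.conj g).toMonoidHom ≤ S := by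
  let S0 : Sylow p G := Sylow.ofCard S hS
  obtain ⟨T, hT⟩ := hP.exists_le_sylow
  obtain ⟨g, hg⟩ := MulAction.exists_smul_eq G T S0
  refine ⟨g, ?_⟩
  have e : ((g • T : Sylow p G) : Subgroup G) = S := by rw [hg]; rfl
  rw [Sylow.coe_subgroup_smul] at e
  rintro _ ⟨z, hz, rfl⟩
  rw [← e]
  exact ⟨z, hT hz, rfl⟩

end Transport

theorem not_coatom_of_conj {P Q : Subgroup Tw} {g : Tw} (h : P.map (MulAut.conj g).toMonoidHom = Q)
    (hQ : ¬ IsCoatom (Subgroup.normalizer (Q : Set Tw))) : ¬ IsCoatom (Subgroup.normalizer (P : Set Tw)) := by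
  rw [← h, isCoatom_normalizer_map] at hQ
  exact hQ

theorem not_coatom_cyclic {p : ℕ} [hp : Fact p.Prime] (hfac : (Nat.card Tw).factorization p = 1) {x : Tw}
    (hxp : x ^ p = 1) (hx1 : x ≠ 1) (hmax : ¬ IsCoatom (Subgroup.normalizer (Subgroup.zpowers x : Set Tw)))
    {P : Subgroup Tw} (hP : IsPGroup p P) (hP1 : P ≠ ⊥) : ¬ IsCoatom (Subgroup.normalizer (P : Set Tw)) := by
  haveI : Finite Tw := Nat.finite_of_card_ne_zero (by rw [card_tw]; norm_num)
  have hc : Nat.card (Subgroup.zpowers x) = p := by rw [Nat.card_zpowers, orderOf_eq_prime hxp hx1]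
  obtain ⟨g, hg⟩ := exists_conj_le hP (S := Subgroup.zpowers x) (by rw [hc, hfac, pow_one])
  refine not_coatom_of_conj (Subgroup.eq_of_le_of_card_ge hg ?_) hmax
  rw [hc, Subgroup.card_map_of_injective (MulEquiv.injective _)]
  haveI : Nontrivial P := (Subgroup.nontrivial_iff_ne_bot P).2 hP1
  obtain ⟨n, hn, hn'⟩ := hP.nontrivial_iff_card.1 inferInstance
  rw [hn']
  exact Nat.le_self_pow hn.ne' p

theorem ne_one_of_notMax {x : Tw} (h : ¬ IsCoatom (Subgroup.normalizer (Subgroup.zpowers x : Set Tw)))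
    {p : ℕ} {e : List ℕ} {pw : List ℕ} {C : ℕ} {wit : List (ℕ × ℕ)} {w : List ℕ} [Fact p.Prime]
    (hw : powOk pw w p = true) (hsep : sepOk pw e C wit p = true) (hx : (x : GL chevE6.Idx F4) = gl w) : x ≠ 1 := by
  rintro rfl
  simp only [sepOk, Bool.and_eq_true, List.all_eq_true (p := fun i => differ _ _ _), List.mem_range] at hsep
  obtain ⟨⟨hle, hC⟩, hwit⟩ := hsep
  obtain ⟨-, -, hpow⟩ := pow_rows (Fact.out : p.Prime).one_lt hw
  have hC' : IsG (gl e * gl w * (gl e)⁻¹) C := by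
    rw [← gl_reverse hle, ← Nat.eq_of_beq_eq_true hC]
    have h1 := hpow 1
    rw [pow_one, Nat.mod_eq_of_lt (Fact.out : p.Prime).one_lt] at h1
    exact ((gl_rows hle).mul h1).mul (gl_rows (by simpa [letters] using hle))
  have h0 := hpow 0
  rw [Nat.zero_mod, pow_zero] at h0
  refine hC'.ne h0 (hwit 0 (Fact.out : p.Prime).pos) ?_
  rw [← hx, Subgroup.coe_one, mul_one, mul_inv_cancel]

set_option maxHeartbeats 1000000 in
theorem not_coatom_tw (p : ℕ) (hp : p.Prime) (h5 : 5 < p) (P : Subgroup Tw) (hP : IsPGroup p P) (hP1 : P ≠ ⊥) :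
    ¬ IsCoatom (Subgroup.normalizer (P : Set Tw)) := by
  haveI : Fact p.Prime := ⟨hp⟩
  haveI : Finite Tw := Nat.finite_of_card_ne_zero (by rw [card_tw]; norm_num)
  haveI : Nontrivial P := (Subgroup.nontrivial_iff_ne_bot P).2 hP1
  obtain ⟨n, hn, hcard⟩ := hP.nontrivial_iff_card.1 inferInstance
  have hdvd : p ∣ Nat.card Tw := (hcard ▸ dvd_pow_self p hn.ne').trans P.card_subgroup_dvd_card
  rw [card_tw] at hdvd
  have hcases : p = 7 ∨ p = 11 ∨ p = 13 ∨ p = 17 ∨ p = 19 := by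
    have hle : p ≤ 19 := by
      rcases (Nat.Prime.dvd_mul hp).1 hdvd with h | h
      · rcases (Nat.Prime.dvd_mul hp).1 h with h | h
        · rcases (Nat.Prime.dvd_mul hp).1 h with h | h
          · rcases (Nat.Prime.dvd_mul hp).1 h with h | h
            · rcases (Nat.Prime.dvd_mul hp).1 h with h | h
              · rcases (Nat.Prime.dvd_mul hp).1 h with h | h
                · rcases (Nat.Prime.dvd_mul hp).1 h with h | h
                  · exact le_trans (Nat.le_of_dvd (by norm_num) (hp.dvd_of_dvd_pow h)) (by norm_num)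
                  · exact le_trans (Nat.le_of_dvd (by norm_num) (hp.dvd_of_dvd_pow h)) (by norm_num)
                · exact le_trans (Nat.le_of_dvd (by norm_num) (hp.dvd_of_dvd_pow h)) (by norm_num)
              · exact le_trans (Nat.le_of_dvd (by norm_num) (hp.dvd_of_dvd_pow h)) (by norm_num)
            · exact le_trans (Nat.le_of_dvd (by norm_num) h) (by norm_num)
          · exact le_trans (Nat.le_of_dvd (by norm_num) h) (by norm_num)
        · exact le_trans (Nat.le_of_dvd (by norm_num) h) (by norm_num)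
      · exact Nat.le_of_dvd (by norm_num) h
    interval_cases p <;> first | omega | exact absurd hp (by norm_num) | norm_num at hdvd
  have fac : ∀ (q k m : ℕ), q.Prime → Nat.card Tw = q ^ k * m → ¬ q ∣ m → (Nat.card Tw).factorization q = k := by
    intro q k m hq he hm
    have hm0 : m ≠ 0 := fun h => hm (h ▸ dvd_zero q)
    rw [he, Nat.factorization_mul (pow_ne_zero _ hq.ne_zero) hm0, Nat.Prime.factorization_pow hq, Finsupp.add_apply,
      Finsupp.single_eq_same, Nat.factorization_eq_zero_of_not_dvd hm, add_zero]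
  rcases hcases with rfl | rfl | rfl | rfl | rfl
  · have hfac : (Nat.card Tw).factorization 7 = 2 :=
      fac 7 2 (2 ^ 36 * 3 ^ 9 * 5 ^ 2 * 11 * 13 * 17 * 19) hp (by rw [card_tw]; norm_num) (by norm_num)
    obtain ⟨g, hg⟩ := exists_conj_le hP (S := sylA) (by rw [card_sylA, hfac]; norm_num)
    set P' := P.map (MulAut.conj g).toMonoidHom
    have hc' : Nat.card P' = 7 ^ n := by
      rw [Subgroup.card_map_of_injective (MulEquiv.injective _), hcard]
    refine not_coatom_of_conj (Q := P') (g := g) rfl ?_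
    show ¬ IsCoatom (Subgroup.normalizer (P' : Set Tw))
    have hle : n ≤ 2 := by
      have := Subgroup.card_dvd_of_le hg
      rw [hc', card_sylA, show (49 : ℕ) = 7 ^ 2 by norm_num] at this
      exact Nat.pow_dvd_pow_iff_le_right (by norm_num : 1 < 7) |>.1 this
    rcases (show n = 1 ∨ n = 2 by omega) with rfl | rfl
    · obtain ⟨h, hh | hh⟩ := sylA_sub hg (by rw [hc', pow_one])
      · rw [show P' = _ from hh, isCoatom_normalizer_map]; exact notMax_X7
      · rw [show P' = _ from hh, isCoatom_normalizer_map]; exact notMax_Y7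
    · rw [show P' = sylA from Subgroup.eq_of_le_of_card_ge hg (by rw [hc', card_sylA]; norm_num)]
      exact notMax_A7
  · exact not_coatom_cyclic (fac 11 1 (2 ^ 36 * 3 ^ 9 * 5 ^ 2 * 7 ^ 2 * 13 * 17 * 19) hp (by rw [card_tw]; norm_num) (by norm_num))
      (x := (⟨gl xP11, mem_P11⟩ : Tw)) (Subtype.ext (by rw [SubgroupClass.coe_pow]; exact (pow_rows hp.one_lt powOk_P11).2.1))
      (ne_one_of_notMax (x := (⟨gl xP11, mem_P11⟩ : Tw)) notMax_P11 powOk_P11 sep_P11 rfl) notMax_P11 hP hP1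
  · exact not_coatom_cyclic (fac 13 1 (2 ^ 36 * 3 ^ 9 * 5 ^ 2 * 7 ^ 2 * 11 * 17 * 19) hp (by rw [card_tw]; norm_num) (by norm_num))
      (x := (⟨gl xP13, mem_P13⟩ : Tw)) (Subtype.ext (by rw [SubgroupClass.coe_pow]; exact (pow_rows hp.one_lt powOk_P13).2.1))
      (ne_one_of_notMax (x := (⟨gl xP13, mem_P13⟩ : Tw)) notMax_P13 powOk_P13 sep_P13 rfl) notMax_P13 hP hP1
  · exact not_coatom_cyclic (fac 17 1 (2 ^ 36 * 3 ^ 9 * 5 ^ 2 * 7 ^ 2 * 11 * 13 * 19) hp (by rw [card_tw]; norm_num) (by norm_num))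
      (x := (⟨gl xP17, mem_P17⟩ : Tw)) (Subtype.ext (by rw [SubgroupClass.coe_pow]; exact (pow_rows hp.one_lt powOk_P17).2.1))
      (ne_one_of_notMax (x := (⟨gl xP17, mem_P17⟩ : Tw)) notMax_P17 powOk_P17 sep_P17 rfl) notMax_P17 hP hP1
  · exact not_coatom_cyclic (fac 19 1 (2 ^ 36 * 3 ^ 9 * 5 ^ 2 * 7 ^ 2 * 11 * 13 * 17) hp (by rw [card_tw]; norm_num) (by norm_num))
      (x := (⟨gl xP19, mem_P19⟩ : Tw)) (Subtype.ext (by rw [SubgroupClass.coe_pow]; exact (pow_rows hp.one_lt powOk_P19).2.1))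
      (ne_one_of_notMax (x := (⟨gl xP19, mem_P19⟩ : Tw)) notMax_P19 powOk_P19 sep_P19 rfl) notMax_P19 hP hP1

section Field

variable {K : Type*} [Field K] [Fintype K] (hK : Fintype.card K = 4)

open Cfsg.Agent.H65 in
theorem map_tw (f : F4 →+* K) (hf : Function.Bijective f) :
    (twistedE6 F4 2).map (mapGL chevE6 f) = twistedE6 K 2 := by
  have hw : ∀ w : List (ℕ × F4), ((chevE6.wordMat F4 w).map f) = chevE6.wordMat K (w.map fun p => (p.1, f p.2)) := by
    intro w
    rw [ChevalleyDatum.wordMat, ← RingHom.mapMatrix_apply, map_list_prod, ChevalleyDatum.wordMat, List.map_map,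
      List.map_map]
    congr 1
    refine List.map_congr_left fun q _ => ?_
    have := congrArg (fun u : GL chevE6.Idx K => (u : Matrix chevE6.Idx chevE6.Idx K))
      (mapGL_xg Cfsg.Agent.H46.goodE6 f q.1 q.2)
    simpa [coe_mapGL] using this
  apply le_antisymm
  · rw [Subgroup.map_le_iff_le_comap, twistedE6, ChevalleyDatum.genSubgroup, Subgroup.closure_le]
    rintro g ⟨w, hw', hg⟩
    refine Subgroup.subset_closure ⟨w.map fun p => (p.1, f p.2), ?_, ?_⟩
    · rcases hw' with ⟨t, ht, r, hr, rfl⟩ | ⟨t, rs, hrs, rfl⟩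
      · exact Or.inl ⟨f t, by rw [← map_pow, ht], r, hr, rfl⟩
      · exact Or.inr ⟨f t, rs, hrs, by simp⟩
    · rw [coe_mapGL, hg, hw]
  · refine (Subgroup.closure_le _).2 ?_
    rintro g ⟨w, hw', hg⟩
    obtain ⟨v, rfl, hv⟩ : ∃ v : List (ℕ × F4), w = v.map (fun p => (p.1, f p.2)) ∧ v ∈ e6Words F4 2 := by
      rcases hw' with ⟨t, ht, r, hr, rfl⟩ | ⟨t, rs, hrs, rfl⟩
      · obtain ⟨s, rfl⟩ := hf.2 t
        exact ⟨[(r, s)], rfl, Or.inl ⟨s, hf.1 (by rw [map_pow, ht]), r, hr, rfl⟩⟩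
      · obtain ⟨s, rfl⟩ := hf.2 t
        exact ⟨[(rs.1, s), (rs.2, s ^ 2)], by simp, Or.inr ⟨s, rs, hrs, rfl⟩⟩
    let u : GL chevE6.Idx F4 := (v.map fun p => Cfsg.Agent.H46.goodE6.xg p.1 p.2).prod
    have hu : (u : Mat4) = chevE6.wordMat F4 v := by
      rw [← Units.coeHom_apply, map_list_prod, ChevalleyDatum.wordMat, List.map_map]
      rfl
    exact ⟨u, Subgroup.subset_closure ⟨v, hv, hu⟩, Units.ext (by rw [coe_mapGL, hu, hw, hg])⟩

include hK in
/-- The statement over every field with four elements. -/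
theorem not_coatom_field (p : ℕ) (hp : p.Prime) (h5 : 5 < p) (P : Subgroup (twistedE6 K 2)) (hP : IsPGroup p P)
    (hP1 : P ≠ ⊥) : ¬ IsCoatom (Subgroup.normalizer (P : Set (twistedE6 K 2))) := by
  obtain ⟨-, -, -, ⟨f⟩⟩ := Cfsg.Agent.H55.TwE6Local.exists_hom K hK
  have hf : Function.Bijective f :=
    (Fintype.bijective_iff_injective_and_card f).2 ⟨RingHom.injective f, by rw [hK]; decide⟩
  let e : Tw ≃* twistedE6 K 2 :=
    ((twistedE6 F4 2).equivMapOfInjective _ (Cfsg.Agent.H65.mapGL_injective f)).trans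
      (MulEquiv.subgroupCongr (map_tw f hf))
  rw [← isCoatom_normalizer_map e.symm P]
  refine not_coatom_tw p hp h5 _ (hP.map _) ?_
  rw [ne_eq, Subgroup.map_eq_bot_iff_of_injective _ e.symm.injective]
  exact hP1

end Field

end Cfsg.Agent.H55.TwE6Local
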