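import Cfsg.Agent.H55.TwE6Local.Base

/-!
Evaluations for the root elements used.
-/

set_option autoImplicit false
set_option Elab.async false
set_option maxRecDepth 100000

namespace Cfsg.Agent.H55.TwE6Local

theorem row_ok0_0 : (((List.finRange 78).drop 0).take 39).all (rowOk 0) = true := by
  decide +kernel

theorem row_ok0_1 : (((List.finRange 78).drop 39).take 39).all (rowOk 0) = true := by
  decide +kernel

theorem row_ok1_0 : (((List.finRange 78).drop 0).take 39).all (rowOk 1) = true := by
  decide +kernel

theorem row_ok1_1 : (((List.finRange 78).drop 39).take 39).all (rowOk 1) = true := by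
  decide +kernel

theorem row_ok2_0 : (((List.finRange 78).drop 0).take 39).all (rowOk 2) = true := by
  decide +kernel

theorem row_ok2_1 : (((List.finRange 78).drop 39).take 39).all (rowOk 2) = true := by
  decide +kernel

theorem row_ok3_0 : (((List.finRange 78).drop 0).take 39).all (rowOk 3) = true := by
  decide +kernel

theorem row_ok3_1 : (((List.finRange 78).drop 39).take 39).all (rowOk 3) = true := by
  decide +kernel

theorem row_ok4_0 : (((List.finRange 78).drop 0).take 39).all (rowOk 4) = true := by
  decide +kernel

theorem row_ok4_1 : (((List.finRange 78).drop 39).take 39).all (rowOk 4) = true := by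
  decide +kernel

theorem row_ok5_0 : (((List.finRange 78).drop 0).take 39).all (rowOk 5) = true := by
  decide +kernel

theorem row_ok5_1 : (((List.finRange 78).drop 39).take 39).all (rowOk 5) = true := by
  decide +kernel

theorem row_ok6_0 : (((List.finRange 78).drop 0).take 39).all (rowOk 6) = true := by
  decide +kernel

theorem row_ok6_1 : (((List.finRange 78).drop 39).take 39).all (rowOk 6) = true := by
  decide +kernel

theorem row_ok7_0 : (((List.finRange 78).drop 0).take 39).all (rowOk 7) = true := by
  decide +kernel

theorem row_ok7_1 : (((List.finRange 78).drop 39).take 39).all (rowOk 7) = true := by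
  decide +kernel

theorem row_ok8_0 : (((List.finRange 78).drop 0).take 39).all (rowOk 8) = true := by
  decide +kernel

theorem row_ok8_1 : (((List.finRange 78).drop 39).take 39).all (rowOk 8) = true := by
  decide +kernel

theorem row_ok9_0 : (((List.finRange 78).drop 0).take 39).all (rowOk 9) = true := by
  decide +kernel

theorem row_ok9_1 : (((List.finRange 78).drop 39).take 39).all (rowOk 9) = true := by
  decide +kernel

theorem row_ok10_0 : (((List.finRange 78).drop 0).take 39).all (rowOk 10) = true := by
  decide +kernel

theorem row_ok10_1 : (((List.finRange 78).drop 39).take 39).all (rowOk 10) = true := by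
  decide +kernel

theorem row_ok11_0 : (((List.finRange 78).drop 0).take 39).all (rowOk 11) = true := by
  decide +kernel

theorem row_ok11_1 : (((List.finRange 78).drop 39).take 39).all (rowOk 11) = true := by
  decide +kernel

theorem row_ok12_0 : (((List.finRange 78).drop 0).take 39).all (rowOk 12) = true := by
  decide +kernel

theorem row_ok12_1 : (((List.finRange 78).drop 39).take 39).all (rowOk 12) = true := by
  decide +kernel

theorem row_ok13_0 : (((List.finRange 78).drop 0).take 39).all (rowOk 13) = true := by
  decide +kernel

theorem row_ok13_1 : (((List.finRange 78).drop 39).take 39).all (rowOk 13) = true := by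
  decide +kernel


end Cfsg.Agent.H55.TwE6Local
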