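import Cfsg.Agent.H55.TwE6Local.CheckA7
import Cfsg.Agent.H55.TwE6Local.CaseX7
import Cfsg.Agent.H55.TwE6Local.CaseY7

/-!
The Sylow subgroup for the prime seven, its subgroups of order seven, and its normaliser.
-/

set_option autoImplicit false
set_option maxRecDepth 100000

namespace Cfsg.Agent.H55.TwE6Local

open Cfsg.Agent.H55.Fi22E6
open Cfsg.Lie Cfsg.Agent.H16
open scoped Matrix

/-- The first generator. -/
noncomputable def xe : Tw := ⟨gl xX7, mem_X7⟩

/-- The second generator. -/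
noncomputable def ye : Tw := ⟨gl xY7, mem_Y7⟩

theorem xe_pow : xe ^ 7 = 1 := Subtype.ext (pow_rows (p := 7) (by norm_num) powOk_X7).2.1

theorem ye_pow : ye ^ 7 = 1 := Subtype.ext (pow_rows (p := 7) (by norm_num) powOk_Y7).2.1

theorem xy_rows (a b : ℕ) : IsG ((xe ^ a * ye ^ b : Tw) : GL chevE6.Idx F4) (rowA a b) := by
  have ha := (pow_rows (p := 7) (by norm_num) powOk_X7).2.2 a
  have hb := (pow_rows (p := 7) (by norm_num) powOk_Y7).2.2 b
  have hlt : 7 * (a % 7) + b % 7 < 49 := by omega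
  have h := Nat.eq_of_beq_eq_true (List.all_eq_true.1 prod_ok _ (List.mem_range.2 hlt))
  rw [show (7 * (a % 7) + b % 7) / 7 = a % 7 by omega, show (7 * (a % 7) + b % 7) % 7 = b % 7 by omega] at h
  rw [rowA, ← h]
  exact ha.mul hb

theorem xy_comm : Commute xe ye := by
  have hx := (pow_rows (p := 7) (by norm_num) powOk_X7).2.2 1
  have hy := (pow_rows (p := 7) (by norm_num) powOk_Y7).2.2 1
  rw [pow_one] at hx hy
  have h2 : IsG ((ye * xe : Tw) : GL chevE6.Idx F4) (mulN (powY7.getD (1 % 7) 0) (powX7.getD (1 % 7) 0)) := by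
    rw [Subgroup.coe_mul]
    exact hy.mul hx
  have h3 : IsG ((xe * ye : Tw) : GL chevE6.Idx F4) (mulN (powX7.getD (1 % 7) 0) (powY7.getD (1 % 7) 0)) := by
    rw [Subgroup.coe_mul]
    exact hx.mul hy
  rw [Nat.eq_of_beq_eq_true commute_ok] at h3
  exact Subtype.ext (h3.ext h2)

theorem pow_val_add {G : Type*} [Monoid G] {g : G} (hg : g ^ 7 = 1) (u v : ZMod 7) :
    g ^ (u + v).val = g ^ u.val * g ^ v.val := by
  rw [ZMod.val_add, ← pow_add, ← pow_eq_pow_mod _ hg]

/-- The parametrisation of the Sylow subgroup. -/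
noncomputable def phiA : Multiplicative (ZMod 7 × ZMod 7) →* Tw where
  toFun u := xe ^ u.toAdd.1.val * ye ^ u.toAdd.2.val
  map_one' := by simp
  map_mul' u v := by
    simp only [toAdd_mul, Prod.fst_add, Prod.snd_add, pow_val_add xe_pow, pow_val_add ye_pow]
    exact ((xy_comm.pow_pow _ _).mul_mul_mul_comm _ _)

theorem phiA_injective : Function.Injective phiA := by
  rw [injective_iff_map_eq_one]
  intro u hu
  obtain ⟨⟨a, b⟩, rfl⟩ := Multiplicative.ofAdd.surjective u
  have h := xy_rows a.val b.val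
  rw [show ((xe ^ a.val * ye ^ b.val : Tw)) = 1 from hu, Subgroup.coe_one, rowA, Nat.mod_eq_of_lt (ZMod.val_lt a),
    Nat.mod_eq_of_lt (ZMod.val_lt b)] at h
  have ha := ZMod.val_lt a
  have hb := ZMod.val_lt b
  have hk := List.all_eq_true.1 nontrivial_ok (7 * a.val + b.val) (List.mem_range.2 (by omega))
  simp only [Bool.or_eq_true, decide_eq_true_eq, List.any_eq_true, List.mem_range] at hk
  rcases hk with h0 | ⟨k, -, l, -, hd⟩
  · rw [show a = 0 from (ZMod.val_eq_zero a).1 (by omega), show b = 0 from (ZMod.val_eq_zero b).1 (by omega)]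
    rfl
  · exact absurd rfl (h.ne IsG.one hd)

/-- The Sylow subgroup. -/
noncomputable def sylA : Subgroup Tw := phiA.range

theorem card_sylA : Nat.card sylA = 49 := by
  rw [sylA, ← Nat.card_congr (MonoidHom.ofInjective phiA_injective).toEquiv, Nat.card_congr Multiplicative.toAdd,
    Nat.card_prod, Nat.card_zmod]

theorem mem_sylA {z : Tw} : z ∈ sylA ↔ ∃ a b, a < 7 ∧ b < 7 ∧ z = xe ^ a * ye ^ b := by
  constructor
  · rintro ⟨u, rfl⟩
    exact ⟨_, _, ZMod.val_lt _, ZMod.val_lt _, rfl⟩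
  · rintro ⟨a, b, ha, hb, rfl⟩
    exact ⟨Multiplicative.ofAdd ((a : ZMod 7), (b : ZMod 7)), by
      show xe ^ _ * ye ^ _ = _
      simp [ZMod.val_cast_of_lt ha, ZMod.val_cast_of_lt hb]⟩

/-- The entry for a subgroup of order seven. -/
noncomputable def lineAt (k : ℕ) : List ℕ × Bool × ℕ × ℕ := lineData.getD k ([], false, 0, 0)

/-- The source of a subgroup of order seven. -/
noncomputable def srcAt (k : ℕ) : Tw := if (lineAt k).2.1 then ye else xe

theorem lineData_length : lineData.length = 8 := by decide +kernel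

theorem line_letters {k : ℕ} (hk : k < 8) : letters (lineAt k).1 = true := by
  have hlt : k < lineData.length := lineData_length.symm ▸ hk
  have h := List.all_eq_true.1 conj_ok _ (List.getElem_mem hlt)
  simp only [Bool.and_eq_true] at h
  rw [lineAt, List.getD_eq_getElem _ _ hlt]
  exact h.1

/-- The conjugating element of a subgroup of order seven. -/
noncomputable def gAt (k : ℕ) (hk : k < 8) : Tw := ⟨gl (lineAt k).1, gl_mem (line_letters hk)⟩

theorem line_conj {k : ℕ} (hk : k < 8) :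
    gAt k hk * srcAt k * (gAt k hk)⁻¹ = xe ^ (lineAt k).2.2.1 * ye ^ (lineAt k).2.2.2 := by
  have hlt : k < lineData.length := lineData_length.symm ▸ hk
  have h := List.all_eq_true.1 conj_ok _ (List.getElem_mem hlt)
  rw [← List.getD_eq_getElem _ ([], false, 0, 0) hlt] at h
  change (letters (lineAt k).1 && _) = true at h
  simp only [Bool.and_eq_true] at h
  refine Subtype.ext ?_
  have hs : IsG (srcAt k : GL chevE6.Idx F4) (if (lineAt k).2.1 then powY7.getD 1 0 else powX7.getD 1 0) := by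
    rw [srcAt]
    split_ifs
    · have := (pow_rows (p := 7) (by norm_num) powOk_Y7).2.2 1
      rw [pow_one] at this
      exact this
    · have := (pow_rows (p := 7) (by norm_num) powOk_X7).2.2 1
      rw [pow_one] at this
      exact this
  have hl := line_letters hk
  refine IsG.ext ?_ (xy_rows _ _)
  rw [Subgroup.coe_mul, Subgroup.coe_mul, Subgroup.coe_inv]
  show IsG (gl (lineAt k).1 * _ * (gl (lineAt k).1)⁻¹) _
  have h2 : _ = rowA (lineAt k).2.2.1 (lineAt k).2.2.2 := Nat.eq_of_beq_eq_true h.2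
  rw [← gl_reverse hl, ← h2]
  exact ((gl_rows hl).mul hs).mul (gl_rows (by simpa [letters] using hl))

theorem line_pow {k : ℕ} (hk : k < 8) (j : ℕ) :
    gAt k hk * srcAt k ^ j * (gAt k hk)⁻¹ =
      xe ^ ((lineAt k).2.2.1 * j % 7) * ye ^ ((lineAt k).2.2.2 * j % 7) := by
  rw [← conj_pow, line_conj, ((xy_comm.pow_pow _ _)).mul_pow, ← pow_mul, ← pow_mul, ← pow_eq_pow_mod _ xe_pow,
    ← pow_eq_pow_mod _ ye_pow]

theorem srcAt_pow (k : ℕ) : srcAt k ^ 7 = 1 := by
  rw [srcAt]; split_ifs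
  exacts [ye_pow, xe_pow]

/-- Every subgroup of order seven of the Sylow subgroup is conjugate to one of two. -/
theorem sylA_sub {P : Subgroup Tw} (hle : P ≤ sylA) (hP : Nat.card P = 7) :
    ∃ g : Tw, P = (Subgroup.zpowers xe).map (MulAut.conj g).toMonoidHom ∨
      P = (Subgroup.zpowers ye).map (MulAut.conj g).toMonoidHom := by
  haveI : Fact (Nat.Prime 7) := ⟨by norm_num⟩
  obtain ⟨⟨z, hz⟩, hz1⟩ : ∃ z : P, z ≠ 1 := by
    haveI : Nontrivial P := Finite.one_lt_card_iff_nontrivial.1 (by rw [hP]; norm_num)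
    exact exists_ne 1
  obtain ⟨a, b, ha, hb, rfl⟩ := mem_sylA.1 (hle hz)
  have h := List.all_eq_true.1 (List.all_eq_true.1 lines_ok a (List.mem_range.2 ha)) b (List.mem_range.2 hb)
  simp only [Bool.or_eq_true, Bool.and_eq_true, decide_eq_true_eq, List.any_eq_true, List.mem_range] at h
  rcases h with ⟨rfl, rfl⟩ | ⟨k, hk, j, hj, ⟨ha', hb'⟩, hj0⟩
  · exact absurd (Subtype.ext (by simp)) hz1
  change a = (lineAt k).2.2.1 * j % 7 at ha'
  change b = (lineAt k).2.2.2 * j % 7 at hb'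
  have e : xe ^ a * ye ^ b = gAt k hk * srcAt k ^ j * (gAt k hk)⁻¹ := by rw [line_pow, ← ha', ← hb']
  set Z := (Subgroup.zpowers (srcAt k)).map (MulAut.conj (gAt k hk)).toMonoidHom
  have hmem : xe ^ a * ye ^ b ∈ Z :=
    e ▸ Subgroup.mem_map.2 ⟨_, pow_mem (Subgroup.mem_zpowers _) j, rfl⟩
  have hcZ : Nat.card Z = 7 := by
    rw [Subgroup.card_map_of_injective (MulEquiv.injective _), Nat.card_zpowers, orderOf_eq_prime (srcAt_pow k)]
    intro h1
    rw [h1, one_pow, mul_one, mul_inv_cancel] at e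
    exact hz1 (Subtype.ext e)
  have key : ∀ Q : Subgroup Tw, Nat.card Q = 7 → xe ^ a * ye ^ b ∈ Q → Subgroup.zpowers (xe ^ a * ye ^ b) = Q := by
    intro Q hQ hmQ
    refine Subgroup.eq_of_le_of_card_ge (Subgroup.zpowers_le.2 hmQ) ?_
    rw [hQ, Nat.card_zpowers]
    refine le_of_eq (orderOf_eq_prime ?_ fun h1 => hz1 (Subtype.ext h1)).symm
    rw [(xy_comm.pow_pow _ _).mul_pow, ← pow_mul, ← pow_mul, mul_comm a, mul_comm b, pow_mul, pow_mul, xe_pow, ye_pow,
      one_pow, one_pow, one_mul]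
  refine ⟨gAt k hk, ?_⟩
  rw [← key P hP hz, key Z hcZ hmem]
  simp only [Z, srcAt]
  split_ifs
  · exact Or.inr rfl
  · exact Or.inl rfl

theorem fromNat_sum (f : ℕ → ℕ) (hf : ∀ k, f k < 4) : ∀ n, xorUpTo f n < 4 ∧
    F4.fromNat (xorUpTo f n) = ∑ k ∈ Finset.range n, F4.fromNat (f k)
  | 0 => ⟨by simp [xorUpTo], rfl⟩
  | n + 1 => by
    obtain ⟨h1, h2⟩ := fromNat_sum f hf n
    refine ⟨Nat.xor_lt_two_pow (n := 2) h1 (hf n), ?_⟩
    rw [Finset.sum_range_succ, ← h2]
    exact F4.fromNat_xor ⟨_, h1⟩ ⟨_, hf n⟩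

theorem trace_rows {M : Mat4} {R : ℕ} (h : Is M R) : M.trace = F4.fromNat (traceN R) := by
  rw [traceN, (fromNat_sum (fun k => getP R k k) (fun k => Nat.mod_lt _ (by norm_num)) 78).2, Finset.sum_range,
    Matrix.trace, ← idx.symm.sum_comp]
  exact Finset.sum_congr rfl fun k _ => h.entry k k

/-- One of the four parts of the subspace for the Sylow subgroup. -/
theorem part_mem {k : ℕ} (hk : k < 8) (hsrc : (lineAt k).2.1 = true) {u : Vec4} (hu : u ∈ kerQ (ofN tY7Q)) :
    ((gAt k hk : GL chevE6.Idx F4) : Mat4) *ᵥ u ∈ kerQ (ofN tA7Q) := by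
  have hin := List.all_eq_true.1 parts_ok.2 k (List.mem_range.2 hk)
  rw [show (lineData.getD k ([], false, 0, 0)).2.1 = true from hsrc] at hin
  simp only [Bool.not_true, Bool.false_or, List.contains_iff_mem] at hin
  obtain ⟨i, hi, rfl⟩ : ∃ i, i < 4 ∧ partsA.getD i 0 = k := by
    obtain ⟨i, hi, rfl⟩ := List.getElem_of_mem hin
    exact ⟨i, hi, List.getD_eq_getElem _ _ hi⟩
  have hQ := is_ofN linA_ok.1
  have hI := hQ.mul (Is.mul (gl_rows (line_letters hk)) (is_compl (is_ofN tY7_lin.1)))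
  refine mem_kerQ.2 ?_
  have e : (1 + ofN tY7Q) *ᵥ u = u := by rw [Matrix.add_mulVec, Matrix.one_mulVec, mem_kerQ.1 hu, add_zero]
  rw [← e, Matrix.mulVec_mulVec, Matrix.mulVec_mulVec]
  show (ofN tA7Q * ((gl (lineAt (partsA.getD i 0)).1 : GL chevE6.Idx F4) : Mat4) * (1 + ofN tY7Q)) *ᵥ u = 0
  rw [Matrix.mul_assoc, Is.ext hI (Nat.eq_of_beq_eq_true (List.all_eq_true.1 inclA_ok i (List.mem_range.2 hi)) ▸ Is.zero),
    Matrix.zero_mulVec]

end Cfsg.Agent.H55.TwE6Local
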