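import Cfsg.Agent.H55.TwE6Local.Group

/-!
Subspaces defined from an element of prime order through the bracket, invariant under the normaliser of the
subgroup it generates.
-/

set_option autoImplicit false
set_option maxRecDepth 100000

namespace Cfsg.Agent.H55.TwE6Local

open Cfsg.Lie Cfsg.Agent.H16
open scoped Matrix

/-- The kernel of a matrix. -/
def kerQ (Q : Mat4) : Submodule F4 Vec4 := LinearMap.ker (Matrix.mulVecLin Q)

theorem mem_kerQ {Q : Mat4} {w : Vec4} : w ∈ kerQ Q ↔ Q *ᵥ w = 0 := by simp [kerQ]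

theorem kerQ_zero : kerQ 0 = ⊤ := Submodule.eq_top_iff'.2 fun w => mem_kerQ.2 (Matrix.zero_mulVec w)

/-- The stabiliser of a subspace. -/
def stabW (W : Submodule F4 Vec4) : Subgroup (GL chevE6.Idx F4) where
  carrier := {g | ∀ w, (g : Mat4) *ᵥ w ∈ W ↔ w ∈ W}
  one_mem' w := by simp
  mul_mem' {a} {b} ha hb w := by rw [Units.val_mul, ← Matrix.mulVec_mulVec, ha, hb]
  inv_mem' {a} ha w := by rw [← ha, Matrix.mulVec_mulVec, Units.mul_inv, Matrix.one_mulVec]

theorem mem_stabW {W : Submodule F4 Vec4} {g : GL chevE6.Idx F4} (h1 : ∀ w ∈ W, (g : Mat4) *ᵥ w ∈ W)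
    (h2 : ∀ w ∈ W, (↑g⁻¹ : Mat4) *ᵥ w ∈ W) : g ∈ stabW W := fun w => ⟨fun hw => by
  have := h2 _ hw
  rwa [Matrix.mulVec_mulVec, Units.inv_mul, Matrix.one_mulVec] at this, h1 w⟩

/-- The subspace spanned by the values of a family of matrices on a subspace. -/
def spanP (Φ : Vec4 → Mat4) (S : Submodule F4 Vec4) : Submodule F4 Vec4 :=
  Submodule.span F4 {w | ∃ v ∈ S, ∃ u ∈ S, w = Φ v *ᵥ u}

theorem spanP_map {Φ : Vec4 → Mat4} {S : Submodule F4 Vec4} {n : Mat4} (hn : ∀ v, n * Φ v = Φ (n *ᵥ v) * n)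
    (hS : ∀ w ∈ S, n *ᵥ w ∈ S) : ∀ w ∈ spanP Φ S, n *ᵥ w ∈ spanP Φ S := by
  intro w hw
  have hle : spanP Φ S ≤ (spanP Φ S).comap (Matrix.mulVecLin n) := by
    refine Submodule.span_le.2 ?_
    rintro _ ⟨v, hv, u, hu, rfl⟩
    rw [SetLike.mem_coe, Submodule.mem_comap, Matrix.mulVecLin_apply, Matrix.mulVec_mulVec, hn, ← Matrix.mulVec_mulVec]
    exact Submodule.subset_span ⟨_, hS v hv, _, hS u hu, rfl⟩
  exact hle hw

section Powers

variable {p : ℕ} [hp : Fact p.Prime] (x : GL chevE6.Idx F4)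

/-- A power with the exponent taken modulo `p`. -/
def xp (i : ZMod p) : Mat4 := ((x ^ i.val : GL chevE6.Idx F4) : Mat4)

variable {x} (hx : x ^ p = 1)
include hx

theorem xp_natCast (k : ℕ) : xp x (k : ZMod p) = ((x ^ k : GL chevE6.Idx F4) : Mat4) := by
  rw [xp, ZMod.val_natCast, pow_eq_pow_mod k hx]

theorem xp_add (i j : ZMod p) : xp x (i + j) = xp x i * xp x j := by
  rw [xp, xp, xp, ← Units.val_mul, ← pow_add, ZMod.val_add, ← pow_eq_pow_mod _ hx]

theorem xp_one : xp x (1 : ZMod p) = (x : Mat4) := by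
  have := xp_natCast (p := p) hx 1
  rwa [Nat.cast_one, pow_one] at this

theorem conj_xp {n : GL chevE6.Idx F4} {m : ℕ} (hn : n * x * n⁻¹ = x ^ m) (i : ZMod p) :
    (n : Mat4) * xp x i = xp x ((m : ZMod p) * i) * (n : Mat4) := by
  have e : n * x ^ i.val = x ^ (m * i.val) * n := by
    rw [pow_mul, ← hn, conj_pow]; group
  have e2 : ((m : ZMod p) * i) = ((m * i.val : ℕ) : ZMod p) := by rw [Nat.cast_mul, ZMod.natCast_zmod_val]
  rw [e2, xp_natCast hx, xp, ← Units.val_mul, e, Units.val_mul]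

omit hx in
/-- The sum of all the powers. -/
noncomputable def sumX : Mat4 := ∑ i : ZMod p, xp x i

theorem sumX_mul : sumX (p := p) (x := x) * (x : Mat4) = sumX (p := p) (x := x) := by
  rw [sumX, Finset.sum_mul, ← xp_one (p := p) hx]
  exact Fintype.sum_equiv (Equiv.addRight (1 : ZMod p)) _ _ fun i => (xp_add hx i 1).symm

theorem mul_sumX : (x : Mat4) * sumX (p := p) (x := x) = sumX (p := p) (x := x) := by
  rw [sumX, Finset.mul_sum, ← xp_one (p := p) hx]
  exact Fintype.sum_equiv (Equiv.addLeft (1 : ZMod p)) _ _ fun i => (xp_add hx 1 i).symm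

theorem conj_sumX {n : GL chevE6.Idx F4} {m : ℕ} (hn : n * x * n⁻¹ = x ^ m) (hm : (m : ZMod p) ≠ 0) :
    (n : Mat4) * sumX (p := p) (x := x) = sumX (p := p) (x := x) * (n : Mat4) := by
  rw [sumX, Finset.mul_sum, Finset.sum_mul]
  exact Fintype.sum_equiv (Equiv.mulLeft₀ (m : ZMod p) hm) _ _ fun i => conj_xp hx hn i

end Powers

/-- The bracket between the fixed spaces. -/
noncomputable def phiE (p : ℕ) [Fact p.Prime] (x : GL chevE6.Idx F4) (v : Vec4) : Mat4 :=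
  sumX (p := p) (x := x) * ad v * sumX (p := p) (x := x)

/-- The bracket between eigenspaces for eigenvalues in a fixed ratio. -/
noncomputable def phiB (p : ℕ) [Fact p.Prime] (x : GL chevE6.Idx F4) (d : ZMod p) (v : Vec4) : Mat4 :=
  ∑ i : ZMod p, xp x i * ad v * xp x (d * i)

/-- The properties of the families used. -/
structure Nice (p : ℕ) (x : GL chevE6.Idx F4) (Φ : Vec4 → Mat4) : Prop where
  map_add : ∀ u v, Φ (u + v) = Φ u + Φ v
  map_smul : ∀ (c : F4) v, Φ (c • v) = c • Φ v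
  shift : ∀ v, ∃ k : ℕ, Φ ((x : Mat4) *ᵥ v) = Φ v * ((x ^ k : GL chevE6.Idx F4) : Mat4)
  natural : ∀ n ∈ autBr, ∀ m : ℕ, (m : ZMod p) ≠ 0 → n * x * n⁻¹ = x ^ m →
    ∀ v, (n : Mat4) * Φ v = Φ ((n : Mat4) *ᵥ v) * (n : Mat4)

theorem nice_phiE {p : ℕ} [Fact p.Prime] {x : GL chevE6.Idx F4} (hx : x ^ p = 1) (hA : x ∈ autBr) :
    Nice p x (phiE p x) where
  map_add u v := by rw [phiE, phiE, phiE, ad_add, Matrix.mul_add, Matrix.add_mul]
  map_smul c v := by rw [phiE, phiE, ad_smul, Matrix.mul_smul, Matrix.smul_mul]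
  shift v := ⟨0, by
    rw [pow_zero, Units.val_one, mul_one, phiE, phiE]
    calc sumX (p := p) (x := x) * ad ((x : Mat4) *ᵥ v) * sumX (p := p) (x := x)
        = sumX (p := p) (x := x) * (ad ((x : Mat4) *ᵥ v) * (x : Mat4)) * sumX (p := p) (x := x) := by
          conv_lhs => arg 2; rw [← mul_sumX hx]
          simp only [Matrix.mul_assoc]
      _ = sumX (p := p) (x := x) * (x : Mat4) * ad v * sumX (p := p) (x := x) := by
          rw [← hA v, ← Matrix.mul_assoc _ (x : Mat4)]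
      _ = _ := by rw [sumX_mul hx]⟩
  natural n hnA m hm hn v := by
    rw [phiE, phiE, ← Matrix.mul_assoc, ← Matrix.mul_assoc, conj_sumX hx hn hm, Matrix.mul_assoc (sumX (x := x)) (n : Mat4),
      hnA v, ← Matrix.mul_assoc (sumX (x := x)), Matrix.mul_assoc (_ * ad _) (n : Mat4), conj_sumX hx hn hm,
      ← Matrix.mul_assoc]

theorem nice_phiB {p : ℕ} [Fact p.Prime] {x : GL chevE6.Idx F4} (hx : x ^ p = 1) (hA : x ∈ autBr) (d : ZMod p) :
    Nice p x (phiB p x d) where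
  map_add u v := by simp only [phiB, ad_add, Matrix.mul_add, Matrix.add_mul, Finset.sum_add_distrib]
  map_smul c v := by simp only [phiB, ad_smul, Matrix.mul_smul, Matrix.smul_mul, Finset.smul_sum]
  shift v := by
    refine ⟨(-d - 1 : ZMod p).val, ?_⟩
    have e : ad ((x : Mat4) *ᵥ v) = (x : Mat4) * ad v * (↑x⁻¹ : Mat4) := by
      rw [hA v, Matrix.mul_assoc, Units.mul_inv, Matrix.mul_one]
    have einv : (↑x⁻¹ : Mat4) = xp x (-1 : ZMod p) := by
      refine (Units.mul_eq_one_iff_inv_eq.1 ?_)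
      rw [← xp_one (p := p) hx, ← xp_add hx, add_neg_cancel, xp, ZMod.val_zero, pow_zero, Units.val_one]
    simp only [phiB]
    rw [e, Finset.sum_mul]
    refine Fintype.sum_equiv (Equiv.addRight (1 : ZMod p)) _ _ fun i => ?_
    show xp x i * ((x : Mat4) * ad v * (↑x⁻¹ : Mat4)) * xp x (d * i) = _
    rw [show ((x ^ (-d - 1 : ZMod p).val : GL chevE6.Idx F4) : Mat4) = xp x (-d - 1 : ZMod p) from rfl, einv,
      Equiv.coe_addRight]
    rw [Matrix.mul_assoc (xp x (i + 1) * ad v), ← xp_add hx, xp_add hx i 1, xp_one hx]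
    rw [show d * (i + 1) + (-d - 1) = -1 + d * i by ring, xp_add hx]
    simp only [Matrix.mul_assoc]
  natural n hnA m hm hn v := by
    simp only [phiB]
    rw [Finset.mul_sum, Finset.sum_mul]
    refine Fintype.sum_equiv (Equiv.mulLeft₀ (m : ZMod p) hm) _ _ fun i => ?_
    rw [← Matrix.mul_assoc, ← Matrix.mul_assoc, conj_xp hx hn, Matrix.mul_assoc (xp x _) (n : Mat4), hnA v,
      ← Matrix.mul_assoc (xp x _), Matrix.mul_assoc (_ * ad _) (n : Mat4), conj_xp hx hn, ← Matrix.mul_assoc]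
    simp only [Equiv.mulLeft₀_apply]
    rw [mul_left_comm]

theorem add_self_mat (A : Mat4) : A + A = 0 := by
  ext i j
  rw [Matrix.add_apply, Matrix.zero_apply]
  exact (by decide : ∀ a : F4, a + a = 0) _

/-- A certificate that the span is the kernel of a matrix. -/
theorem spanP_eq {p : ℕ} [Fact p.Prime] {x : GL chevE6.Idx F4} (hx : x ^ p = 1) {Φ : Vec4 → Mat4}
    (hΦ : Nice p x Φ) {Q1 Q Dm : Mat4} (hQ1 : Q1 * (1 + Q1) = 0)
    (hxS : ∀ w ∈ kerQ Q1, (x : Mat4) *ᵥ w ∈ kerQ Q1)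
    {nd : ℕ} (hcols : ∀ i (j : Fin 78), nd ≤ j.val → Dm i (Fi22E6.idx.symm j) = 0) (hD : Q1 * Dm = 0)
    {N : ZMod p → Mat4} (hgen : ∑ i : ZMod p, xp x i * (Dm * N i) = 1 + Q1)
    {M : Fin 78 → Mat4}
    (hQ : ∀ j : Fin 78, j.val < nd → Q * (Φ (fun i => Dm i (Fi22E6.idx.symm j)) * (1 + Q1)) = 0)
    (hone : Q + ∑ j ∈ Finset.univ.filter (fun j : Fin 78 => j.val < nd),
      Φ (fun i => Dm i (Fi22E6.idx.symm j)) * (1 + Q1) * M j = 1) :
    spanP Φ (kerQ Q1) = kerQ Q := by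
  have hP : ∀ w ∈ kerQ Q1, (1 + Q1) *ᵥ w = w := fun w hw => by
    rw [Matrix.add_mulVec, Matrix.one_mulVec, mem_kerQ.1 hw, add_zero]
  have hPS : ∀ w, (1 + Q1) *ᵥ w ∈ kerQ Q1 := fun w => mem_kerQ.2 (by
    rw [Matrix.mulVec_mulVec, hQ1, Matrix.zero_mulVec])
  have hzero : Φ 0 = 0 := by simpa using hΦ.map_smul 0 0
  let T : Submodule F4 Vec4 :=
    { carrier := {v | ∀ u ∈ kerQ Q1, Q *ᵥ (Φ v *ᵥ u) = 0}
      zero_mem' := fun u _ => by rw [hzero, Matrix.zero_mulVec, Matrix.mulVec_zero]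
      add_mem' := fun {a b} ha hb u hu => by
        rw [hΦ.map_add, Matrix.add_mulVec, Matrix.mulVec_add, ha u hu, hb u hu, add_zero]
      smul_mem' := fun c a ha u hu => by
        rw [hΦ.map_smul, Matrix.smul_mulVec, Matrix.mulVec_smul, ha u hu, smul_zero] }
  have hTx : ∀ k : ℕ, ∀ v ∈ T, ((x ^ k : GL chevE6.Idx F4) : Mat4) *ᵥ v ∈ T := by
    have hpowS : ∀ k : ℕ, ∀ w ∈ kerQ Q1, ((x ^ k : GL chevE6.Idx F4) : Mat4) *ᵥ w ∈ kerQ Q1 := by
      intro k
      induction k with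
      | zero => intro w hw; simpa using hw
      | succ k ih => intro w hw; rw [pow_succ', Units.val_mul, ← Matrix.mulVec_mulVec]; exact hxS _ (ih w hw)
    intro k
    induction k with
    | zero => intro v hv; simpa using hv
    | succ k ih =>
      intro v hv u hu
      obtain ⟨l, hl⟩ := hΦ.shift (((x ^ k : GL chevE6.Idx F4) : Mat4) *ᵥ v)
      rw [pow_succ', Units.val_mul, ← Matrix.mulVec_mulVec, hl, ← Matrix.mulVec_mulVec]
      exact ih v hv _ (hpowS l u hu)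
  have hTcol : ∀ j : Fin 78, (fun i => Dm i (Fi22E6.idx.symm j)) ∈ T := by
    intro j u hu
    by_cases hj : j.val < nd
    · rw [← hP u hu, Matrix.mulVec_mulVec, Matrix.mulVec_mulVec, Matrix.mul_assoc Q, hQ j hj, Matrix.zero_mulVec]
    · rw [show (fun i => Dm i (Fi22E6.idx.symm j)) = 0 from funext fun i => hcols i j (by omega), hzero,
        Matrix.zero_mulVec, Matrix.mulVec_zero]
  have hTD : ∀ w, Dm *ᵥ w ∈ T := by
    intro w
    have : Dm *ᵥ w = ∑ j : Fin 78, w (Fi22E6.idx.symm j) • fun i => Dm i (Fi22E6.idx.symm j) := by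
      funext i
      rw [Matrix.mulVec, dotProduct, Finset.sum_apply, ← Fi22E6.idx.symm.sum_comp]
      refine Finset.sum_congr rfl fun j _ => ?_
      rw [Pi.smul_apply, smul_eq_mul, mul_comm]
    rw [this]
    exact Submodule.sum_mem _ fun j _ => T.smul_mem _ (hTcol j)
  refine le_antisymm (Submodule.span_le.2 ?_) fun w hw => ?_
  · rintro _ ⟨v, hv, u, hu, rfl⟩
    refine mem_kerQ.2 ((?_ : v ∈ T) u hu)
    rw [← hP v hv, ← hgen, Matrix.sum_mulVec]
    refine Submodule.sum_mem _ fun i _ => ?_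
    rw [← Matrix.mulVec_mulVec, ← Matrix.mulVec_mulVec]
    exact hTx _ _ (hTD _)
  · have e : w = (Q + ∑ j ∈ Finset.univ.filter (fun j : Fin 78 => j.val < nd),
        Φ (fun i => Dm i (Fi22E6.idx.symm j)) * (1 + Q1) * M j) *ᵥ w := by rw [hone, Matrix.one_mulVec]
    rw [e, Matrix.add_mulVec, mem_kerQ.1 hw, zero_add, Matrix.sum_mulVec]
    refine Submodule.sum_mem _ fun j _ => Submodule.subset_span ⟨fun i => Dm i (Fi22E6.idx.symm j), mem_kerQ.2 ?_, _, hPS (M j *ᵥ w), ?_⟩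
    · funext i
      have := congrFun (congrFun hD i) (Fi22E6.idx.symm j)
      simpa [Matrix.mulVec, dotProduct, Matrix.mul_apply] using this
    · rw [← Matrix.mulVec_mulVec, ← Matrix.mulVec_mulVec]

theorem kerQ_stable {Q g : Mat4} (h : Q * g * (1 + Q) = 0) : ∀ w ∈ kerQ Q, g *ᵥ w ∈ kerQ Q := by
  intro w hw
  refine mem_kerQ.2 ?_
  have e : (1 + Q) *ᵥ w = w := by rw [Matrix.add_mulVec, Matrix.one_mulVec, mem_kerQ.1 hw, add_zero]
  rw [← e, Matrix.mulVec_mulVec, Matrix.mulVec_mulVec, h, Matrix.zero_mulVec]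

theorem kerQ_moved {Q g : Mat4} (hQ : Q * (1 + Q) = 0) (h : Q * g * (1 + Q) ≠ 0) :
    ¬ ∀ w ∈ kerQ Q, g *ᵥ w ∈ kerQ Q := by
  refine fun hst => h (Matrix.ext fun i j => ?_)
  have hw : (1 + Q) *ᵥ Pi.single j 1 ∈ kerQ Q := mem_kerQ.2 (by
    rw [Matrix.mulVec_mulVec, hQ, Matrix.zero_mulVec])
  have := congrFun (mem_kerQ.1 (hst _ hw)) i
  rw [Matrix.mulVec_mulVec, Matrix.mulVec_mulVec] at this
  simpa using this

end Cfsg.Agent.H55.TwE6Local
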